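import Mathlib
import Cfsg.Prelude

set_option autoImplicit false

namespace Cfsg.Agent.Lib.helper29

noncomputable def affPerm {p : ℕ} [Fact p.Prime] (a : (ZMod p)ˣ) (b : ZMod p) :
    Equiv.Perm (ZMod p) :=
  (Units.mulLeft a).trans (Equiv.addRight b)

theorem affPerm_apply {p : ℕ} [Fact p.Prime] (a : (ZMod p)ˣ) (b x : ZMod p) :
    affPerm a b x = a * x + b := by
  simp [affPerm]

theorem affPerm_mem {p : ℕ} [Fact p.Prime] (a : (ZMod p)ˣ) (b : ZMod p) :
    affPerm a b ∈ Cfsg.affineGroup (ZMod p) := ⟨a, b, affPerm_apply a b⟩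

end Cfsg.Agent.Lib.helper29
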