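import Mathlib
import Cfsg.Prelude.Def_Perm

set_option autoImplicit false

namespace Cfsg.Agent.Lib.helper29

open MulAction

theorem exists_fixed_of_pgroup {K V P : Type*} [Field K] [AddCommGroup V] [Module K V] [Group P]
    [Finite P] {p : ℕ} [Fact p.Prime] [CharP K p] (hP : IsPGroup p P) (ρ : Representation K P V)
    (W : Submodule K V) (hW : W ≠ ⊥) (hinv : ∀ g : P, ∀ w ∈ W, ρ g w ∈ W) :
    ∃ w ∈ W, w ≠ 0 ∧ ∀ g : P, ρ g w = w := by
  obtain ⟨w₀, hw₀W, hw₀⟩ := (Submodule.ne_bot_iff W).mp hW
  have hp0 : ∀ x : V, p • x = 0 := by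
    intro x
    rw [← Nat.cast_smul_eq_nsmul K p x, CharP.cast_eq_zero K p, zero_smul]
  have hAW : ∀ a ∈ AddSubgroup.closure (Set.range fun g : P => ρ g w₀), a ∈ W := by
    intro a ha
    induction ha using AddSubgroup.closure_induction with
    | mem x hx =>
      obtain ⟨g, rfl⟩ := hx
      exact hinv g w₀ hw₀W
    | zero => exact W.zero_mem
    | add x y _ _ hx hy => exact W.add_mem hx hy
    | neg x _ hx => exact W.neg_mem hx
  have hAinv : ∀ g : P, ∀ a ∈ AddSubgroup.closure (Set.range fun g : P => ρ g w₀),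
      ρ g a ∈ AddSubgroup.closure (Set.range fun g : P => ρ g w₀) := by
    intro g a ha
    induction ha using AddSubgroup.closure_induction with
    | mem x hx =>
      obtain ⟨h, rfl⟩ := hx
      apply AddSubgroup.subset_closure
      exact ⟨g * h, by
        change ρ (g * h) w₀ = ρ g (ρ h w₀)
        rw [map_mul]
        rfl⟩
    | zero =>
      rw [map_zero]
      exact AddSubgroup.zero_mem _
    | add x y _ _ hx hy =>
      rw [map_add]
      exact AddSubgroup.add_mem _ hx hy
    | neg x _ hx =>
      rw [map_neg]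
      exact AddSubgroup.neg_mem _ hx
  haveI hfin : Finite (AddSubgroup.closure (Set.range fun g : P => ρ g w₀)) := by
    apply AddCommGroup.finite_of_fg_isAddTorsion
    intro a
    rw [isOfFinAddOrder_iff_nsmul_eq_zero]
    refine ⟨p, (Fact.out : p.Prime).pos, ?_⟩
    apply Subtype.ext
    exact hp0 a.1
  letI : MulAction P (AddSubgroup.closure (Set.range fun g : P => ρ g w₀)) :=
    { smul := fun g a => ⟨ρ g a.1, hAinv g a.1 a.2⟩
      one_smul := fun a => Subtype.ext (by
        change ρ 1 a.1 = a.1
        rw [map_one]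
        rfl)
      mul_smul := fun g h a => Subtype.ext (by
        change ρ (g * h) a.1 = ρ g (ρ h a.1)
        rw [map_mul]
        rfl) }
  have hw₀A : w₀ ∈ AddSubgroup.closure (Set.range fun g : P => ρ g w₀) := by
    apply AddSubgroup.subset_closure
    exact ⟨1, by
      change ρ 1 w₀ = w₀
      rw [map_one]
      rfl⟩
  have hdvd : p ∣ Nat.card (AddSubgroup.closure (Set.range fun g : P => ρ g w₀)) := by
    have h1 : addOrderOf (⟨w₀, hw₀A⟩ : AddSubgroup.closure (Set.range fun g : P => ρ g w₀)) = p := by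
      apply addOrderOf_eq_prime
      · apply Subtype.ext
        exact hp0 w₀
      · intro h
        apply hw₀
        exact congrArg Subtype.val h
    rw [← h1]
    exact addOrderOf_dvd_natCard _
  have hzero : (0 : AddSubgroup.closure (Set.range fun g : P => ρ g w₀)) ∈
      fixedPoints P (AddSubgroup.closure (Set.range fun g : P => ρ g w₀)) := by
    intro g
    apply Subtype.ext
    change ρ g 0 = 0
    rw [map_zero]
  obtain ⟨b, hb, hb0⟩ := hP.exists_fixed_point_of_prime_dvd_card_of_fixed_point _ hdvd hzero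
  refine ⟨b.1, hAW b.1 b.2, ?_, ?_⟩
  · intro h
    apply hb0
    apply Subtype.ext
    exact h.symm
  · intro g
    have := hb g
    exact congrArg Subtype.val this

theorem sylow_pretransitive {G Ω : Type*} [Group G] [Finite G] [MulAction G Ω] [Fintype Ω]
    [MulAction.IsPretransitive G Ω] {p f : ℕ} [Fact p.Prime] (hcard : Fintype.card Ω = p ^ f)
    (P : Sylow p G) : MulAction.IsPretransitive (P : Subgroup G) Ω := by
  classical
  have hp : p.Prime := Fact.out
  have hne : Nonempty Ω := Fintype.card_pos_iff.mp (by rw [hcard]; exact pow_pos hp.pos f)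
  obtain ⟨α⟩ := hne
  have h1 : (stabilizer G α).index = p ^ f := by
    rw [MulAction.index_stabilizer_of_transitive, Nat.card_eq_fintype_card, hcard]
  have h2 := Subgroup.card_mul_index (stabilizer G α)
  rw [h1] at h2
  have hPcard : Nat.card (P : Subgroup G) = p ^ (Nat.card G).factorization p :=
    Sylow.card_eq_multiplicity P
  have hfac : (Nat.card G).factorization p = (Nat.card (stabilizer G α)).factorization p + f := by
    rw [← h2, Nat.factorization_mul Nat.card_pos.ne' (pow_ne_zero f hp.pos.ne'),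
      Finsupp.add_apply, Nat.factorization_pow, Finsupp.smul_apply, hp.factorization_self]
    simp
  obtain ⟨k, hk⟩ := (P.isPGroup'.to_subgroup (stabilizer (P : Subgroup G) α)).exists_card_eq
  have hkle : k ≤ (Nat.card (stabilizer G α)).factorization p := by
    have h3 : Nat.card (stabilizer (P : Subgroup G) α) ∣ Nat.card (stabilizer G α) := by
      apply Subgroup.card_dvd_of_injective
        (⟨⟨fun x => ⟨(x.1 : G), x.2⟩, rfl⟩, fun _ _ => rfl⟩ :
          stabilizer (P : Subgroup G) α →* stabilizer G α)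
      intro x y hxy
      apply Subtype.ext
      apply Subtype.ext
      exact congrArg (fun z : stabilizer G α => (z : G)) hxy
    rw [hk] at h3
    exact (hp.pow_dvd_iff_le_factorization Nat.card_pos.ne').mp h3
  have h4 := Subgroup.card_mul_index (stabilizer (P : Subgroup G) α)
  rw [MulAction.index_stabilizer, hk, hPcard, hfac] at h4
  have h5 : p ^ f ≤ (orbit (P : Subgroup G) α).ncard := by
    have h6 : p ^ k * (orbit (P : Subgroup G) α).ncard =
        p ^ k * (p ^ ((Nat.card (stabilizer G α)).factorization p - k) * p ^ f) := by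
      rw [h4, ← mul_assoc, ← pow_add, ← pow_add]
      congr 1
      omega
    have h7 := Nat.eq_of_mul_eq_mul_left (pow_pos hp.pos k) h6
    rw [h7]
    exact Nat.le_mul_of_pos_left _ (pow_pos hp.pos _)
  have h8 : orbit (P : Subgroup G) α = Set.univ := by
    apply Set.eq_of_subset_of_ncard_le (Set.subset_univ _) _ Set.finite_univ
    rw [Set.ncard_univ, Nat.card_eq_fintype_card, hcard]
    exact h5
  constructor
  intro x y
  have hx : x ∈ orbit (P : Subgroup G) α := by
    rw [h8]
    exact Set.mem_univ x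
  have hy : y ∈ orbit (P : Subgroup G) α := by
    rw [h8]
    exact Set.mem_univ y
  obtain ⟨g₁, rfl⟩ := hx
  obtain ⟨g₂, rfl⟩ := hy
  exact ⟨g₂ * g₁⁻¹, by rw [mul_smul, inv_smul_smul]⟩

theorem const_of_fixed {G Ω K : Type*} [Group G] [MulAction G Ω] [MulAction.IsPretransitive G Ω]
    [CommSemiring K] (v : Ω → K) (hv : ∀ g : G, Cfsg.permRep K G Ω g v = v) (x y : Ω) :
    v x = v y := by
  obtain ⟨g, rfl⟩ := MulAction.exists_smul_eq G x y
  have h := congrFun (hv g) (g • x)
  change v (g⁻¹ • g • x) = v (g • x) at h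
  rw [inv_smul_smul] at h
  exact h

theorem constants_le {G : Type*} [Group G] [Finite G] {K : Type*} [Field K] {p f : ℕ}
    [Fact p.Prime] [CharP K p] {Ω : Type*} [Fintype Ω] [MulAction G Ω]
    [MulAction.IsPretransitive G Ω] (hcard : Fintype.card Ω = p ^ f)
    (W : Submodule K (Ω → K)) (hWinv : ∀ g : G, ∀ w ∈ W, Cfsg.permRep K G Ω g w ∈ W)
    (hW : W ≠ ⊥) : (fun _ => 1 : Ω → K) ∈ W := by
  obtain ⟨P⟩ : Nonempty (Sylow p G) := inferInstance
  haveI := sylow_pretransitive hcard P
  obtain ⟨w, hwW, hw0, hwfix⟩ := exists_fixed_of_pgroup (K := K) P.isPGroup'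
    (Cfsg.permRep K (P : Subgroup G) Ω) W hW (fun g w hw => hWinv (g : G) w hw)
  have hconst := const_of_fixed (G := (P : Subgroup G)) w hwfix
  obtain ⟨x₀, hx₀⟩ : ∃ x, w x ≠ 0 := by
    by_contra hcon
    push Not at hcon
    exact hw0 (funext hcon)
  have h1 : (fun _ => 1 : Ω → K) = (w x₀)⁻¹ • w := by
    funext x
    rw [Pi.smul_apply, smul_eq_mul, hconst x x₀, inv_mul_cancel₀ hx₀]
  rw [h1]
  exact W.smul_mem _ hwW

end Cfsg.Agent.Lib.helper29
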