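import Cfsg.Agent.S0673

set_option autoImplicit false

namespace Cfsg.Agent.Lib.helper29

open Polynomial

section
variable {p : ℕ} [Fact p.Prime] {K : Type*} [Field K] [CharP K p]

theorem ev_inj_of_degree_lt (P Q : K[X]) (hP : P.degree < p) (hQ : Q.degree < p)
    (h : ev p K P = ev p K Q) : P = Q := by
  have h1 := eq_zero_of_ev_eq_zero (p := p) (P - Q)
    (lt_of_le_of_lt (degree_sub_le P Q) (max_lt hP hQ)) (by rw [map_sub, h, sub_self])
  exact sub_eq_zero.mp h1

theorem affine_of_small (r : ℕ) (hr2 : 2 ≤ r) (hrp : 2 * r ≤ p + 1)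
    (U : Submodule K (ZMod p → K))
    (hU : ∀ f : ZMod p → K, f ∈ U ↔ ∃ P : K[X], P.degree < r ∧ ev p K P = f)
    (γ : ZMod p → ZMod p) (hγ : ∀ f ∈ U, f ∘ γ ∈ U) :
    ∃ A B : K, ∀ j, (ZMod.cast (γ j) : K) = A * ZMod.cast j + B := by
  have hp : p.Prime := Fact.out
  have hp2 := hp.two_le
  have hXU : ev p K X ∈ U := (hU _).mpr ⟨X, by
    rw [degree_X]
    exact_mod_cast hr2, rfl⟩
  obtain ⟨Q, hQdeg, hQ⟩ := (hU _).mp (hγ _ hXU)
  have hQj : ∀ j, Q.eval (ZMod.cast j : K) = ZMod.cast (γ j) := by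
    intro j
    have h1 := congrFun hQ j
    simp only [ev_apply, Function.comp_apply, eval_X] at h1
    exact h1
  have hQnat : Q.natDegree < r := by
    by_cases hQ0 : Q = 0
    · rw [hQ0, natDegree_zero]
      omega
    · exact (natDegree_lt_iff_degree_lt hQ0).mpr hQdeg
  have hle1 : Q.natDegree ≤ 1 := by
    by_contra hcon
    push Not at hcon
    obtain ⟨e, he⟩ : ∃ e, e = Q.natDegree := ⟨_, rfl⟩
    rw [← he] at hcon hQnat
    obtain ⟨i, hi⟩ : ∃ i, i = (r - 1) / e + 1 := ⟨_, rfl⟩
    have hie1 : r ≤ i * e := by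
      have h1 := Nat.lt_div_mul_add (a := r - 1) (b := e) (by omega)
      rw [hi, add_mul, one_mul]
      omega
    have hie2 : i * e ≤ r - 1 + e := by
      have h1 := Nat.div_mul_le_self (r - 1) e
      rw [hi, add_mul, one_mul]
      omega
    have hir : i < r := by
      have h1 : (r - 1) / e ≤ (r - 1) / 2 := Nat.div_le_div_left (by omega) (by norm_num)
      omega
    have hiep : i * e < p := by omega
    have hXiU : ev p K (X ^ i) ∈ U := (hU _).mpr ⟨X ^ i, by
      rw [degree_X_pow]
      exact_mod_cast hir, rfl⟩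
    obtain ⟨Q', hQ'deg, hQ'⟩ := (hU _).mp (hγ _ hXiU)
    have h1 : ev p K (Q ^ i) = ev p K Q' := by
      rw [hQ']
      funext j
      simp only [ev_apply, Function.comp_apply, eval_pow, eval_X, hQj]
    have hdeg1 : (Q ^ i).degree < p := by
      apply lt_of_le_of_lt degree_le_natDegree
      rw [natDegree_pow, ← he]
      exact_mod_cast hiep
    have hdeg2 : Q'.degree < p :=
      lt_of_lt_of_le hQ'deg (by exact_mod_cast (by omega : r ≤ p))
    have h2 := ev_inj_of_degree_lt (p := p) _ _ hdeg1 hdeg2 h1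
    have hQ0 : Q ≠ 0 := by
      intro h
      rw [h, natDegree_zero] at he
      omega
    have hQi0 : Q ^ i ≠ 0 := pow_ne_zero _ hQ0
    have h3 : (Q ^ i).natDegree < r := by
      rw [h2] at hQi0 ⊢
      exact (natDegree_lt_iff_degree_lt hQi0).mpr hQ'deg
    rw [natDegree_pow, ← he] at h3
    omega
  refine ⟨Q.coeff 1, Q.coeff 0, fun j => ?_⟩
  have hQeq := eq_X_add_C_of_natDegree_le_one hle1
  rw [← hQj j]
  conv_lhs => rw [hQeq]
  simp

theorem sum_eval_eq_zero (R : K[X]) (hR : R.natDegree + 1 < p) :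
    ∑ j : ZMod p, R.eval (ZMod.cast j : K) = 0 := by
  simp_rw [eval_eq_sum_range]
  rw [Finset.sum_comm]
  apply Finset.sum_eq_zero
  intro i hi
  rw [← Finset.mul_sum]
  have h1 : ∑ j : ZMod p, (ZMod.cast j : K) ^ i = 0 := by
    have h2 := FiniteField.sum_pow_lt_card_sub_one (ZMod p) i (by
      rw [ZMod.card]
      have := Finset.mem_range.mp hi
      omega)
    have h3 := congrArg (ZMod.castHom (dvd_refl p) K) h2
    rw [map_sum, map_zero] at h3
    simpa [map_pow] using h3
  rw [h1, mul_zero]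

theorem sum_pow_pred_ne_zero : ∑ j : ZMod p, (ZMod.cast j : K) ^ (p - 1) ≠ 0 := by
  have hp : p.Prime := Fact.out
  have h1 : ∀ j : ZMod p, (ZMod.cast j : K) ^ (p - 1) = 1 - if j = 0 then 1 else 0 := by
    intro j
    split_ifs with hj
    · rw [hj, ZMod.cast_zero, zero_pow (by have := hp.two_le; omega), sub_self]
    · have h2 := congrArg (ZMod.castHom (dvd_refl p) K) (ZMod.pow_card_sub_one_eq_one hj)
      rw [map_pow, map_one] at h2
      rw [sub_zero]
      exact h2
  simp_rw [h1]
  rw [Finset.sum_sub_distrib, Finset.sum_const, Finset.card_univ, ZMod.card,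
    Finset.sum_ite_eq' Finset.univ (0 : ZMod p), if_pos (Finset.mem_univ _), nsmul_eq_mul, mul_one,
    CharP.cast_eq_zero K p, zero_sub]
  exact neg_ne_zero.mpr one_ne_zero

def perp (U : Submodule K (ZMod p → K)) : Submodule K (ZMod p → K) where
  carrier := {h | ∀ f ∈ U, ∑ j, f j * h j = 0}
  add_mem' := by
    intro a b ha hb f hf
    simp only [Pi.add_apply, mul_add, Finset.sum_add_distrib]
    rw [ha f hf, hb f hf, add_zero]
  zero_mem' := by
    intro f hf
    simp
  smul_mem' := by
    intro c a ha f hf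
    simp only [Pi.smul_apply, smul_eq_mul, mul_left_comm, ← Finset.mul_sum]
    rw [ha f hf, mul_zero]

theorem mem_perp (U : Submodule K (ZMod p → K)) (h : ZMod p → K) :
    h ∈ perp U ↔ ∀ f ∈ U, ∑ j, f j * h j = 0 := Iff.rfl

theorem affine_core (Γ : Subgroup (Equiv.Perm (ZMod p))) (U : Submodule K (ZMod p → K))
    (hshift : ∀ f ∈ U, (fun j => f (j - 1)) ∈ U) (hΓ : ∀ γ ∈ Γ, ∀ f ∈ U, f ∘ γ ∈ U)
    (h2 : 2 ≤ Module.finrank K U) (hp2 : Module.finrank K U + 2 ≤ p) :
    ∀ γ ∈ Γ, ∃ A B : K, ∀ j, (ZMod.cast (γ j) : K) = A * ZMod.cast j + B := by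
  have hp : p.Prime := Fact.out
  obtain ⟨r, hrp, hfin, hU⟩ := Cfsg.Agent.S0673.main U hshift
  rw [hfin] at h2 hp2
  by_cases hsmall : 2 * r ≤ p + 1
  · intro γ hγ
    exact affine_of_small r h2 hsmall U hU γ (hΓ γ hγ)
  · have hshift' : ∀ f ∈ U, (fun j => f (j + 1)) ∈ U := by
      intro f hf
      obtain ⟨P, hdeg, rfl⟩ := (hU f).mp hf
      rw [hU]
      refine ⟨P.comp (X + C 1), ?_, ?_⟩
      · by_cases hP0 : P = 0
        · rw [hP0, zero_comp]
          rw [hP0] at hdeg
          exact hdeg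
        · have h1 : (P.comp (X + C 1)).natDegree = P.natDegree := by
            rw [natDegree_comp, natDegree_X_add_C, mul_one]
          have h3 := (natDegree_lt_iff_degree_lt hP0).mpr hdeg
          apply lt_of_le_of_lt degree_le_natDegree
          rw [h1]
          exact_mod_cast h3
      · funext j
        rw [ev_apply, ev_apply, eval_comp, eval_add, eval_X, eval_C]
        have h1 := map_add (ZMod.castHom (dvd_refl p) K) j 1
        rw [map_one] at h1
        congr 1
        exact h1.symm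
    have hperp_shift : ∀ h ∈ perp U, (fun j => h (j - 1)) ∈ perp U := by
      intro h hh f hf
      have h1 := hh _ (hshift' f hf)
      rw [← h1]
      apply Fintype.sum_equiv (Equiv.subRight 1)
      intro j
      simp
    have hperp_Γ : ∀ γ ∈ Γ, ∀ h ∈ perp U, h ∘ γ ∈ perp U := by
      intro γ hγ h hh f hf
      have h1 := hh _ (hΓ γ⁻¹ (Γ.inv_mem hγ) f hf)
      rw [← h1]
      apply Fintype.sum_equiv γ
      intro j
      simp
    obtain ⟨r', hr'p, hfin', hU'⟩ := Cfsg.Agent.S0673.main (perp U) hperp_shift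
    have hr'2 : 2 ≤ r' := by
      have hX : ev p K X ∈ perp U := by
        intro f hf
        obtain ⟨P, hdeg, rfl⟩ := (hU f).mp hf
        have h1 : ∀ j, ev p K P j * ev p K X j = (P * X).eval (ZMod.cast j : K) := by
          intro j
          simp [ev_apply]
        simp_rw [h1]
        apply sum_eval_eq_zero
        by_cases hP0 : P = 0
        · rw [hP0, zero_mul, natDegree_zero]
          omega
        · have h3 := (natDegree_lt_iff_degree_lt hP0).mpr hdeg
          rw [natDegree_mul_X hP0]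
          omega
      obtain ⟨P', hdeg', hP'⟩ := (hU' _).mp hX
      have h4 := ev_inj_of_degree_lt (p := p) P' X
        (lt_of_lt_of_le hdeg' (by exact_mod_cast hr'p))
        (by
          rw [degree_X]
          exact_mod_cast hp.one_lt) hP'
      rw [h4, degree_X] at hdeg'
      exact_mod_cast hdeg'
    have hr'le : r' + r ≤ p := by
      by_contra hcon
      push Not at hcon
      have hmem : ev p K (X ^ (p - r)) ∈ perp U := (hU' _).mpr ⟨X ^ (p - r), by
        rw [degree_X_pow]
        exact_mod_cast (by omega : p - r < r'), rfl⟩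
      have hmem2 : ev p K (X ^ (r - 1)) ∈ U := (hU _).mpr ⟨X ^ (r - 1), by
        rw [degree_X_pow]
        exact_mod_cast (by omega : r - 1 < r), rfl⟩
      have h5 := hmem _ hmem2
      apply sum_pow_pred_ne_zero (p := p) (K := K)
      rw [← h5]
      apply Finset.sum_congr rfl
      intro j _
      simp only [ev_apply, eval_pow, eval_X]
      rw [← pow_add]
      congr 1
      omega
    intro γ hγ
    exact affine_of_small r' hr'2 (by omega) (perp U) hU' γ (hperp_Γ γ hγ)

end

end Cfsg.Agent.Lib.helper29
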