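import Mathlib
import Cfsg.Agent.S0674
import Cfsg.Agent.S0671

set_option autoImplicit false

namespace Cfsg.Agent.Lib.helper29

theorem prime_dvd_card_of_transitive {α : Type*} [Fintype α] [DecidableEq α] {p : ℕ}
    [Fact p.Prime] (hα : Fintype.card α = p) (G : Subgroup (Equiv.Perm α))
    [MulAction.IsPretransitive G α] : p ∣ Nat.card G := by
  have hp : p.Prime := Fact.out
  haveI : Nonempty α := by
    rw [← Fintype.card_pos_iff, hα]
    exact hp.pos
  obtain ⟨a₀⟩ := ‹Nonempty α›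
  have h1 := MulAction.index_stabilizer_of_transitive G a₀
  have h2 := Subgroup.index_dvd_card (MulAction.stabilizer G a₀)
  rw [h1, Nat.card_eq_fintype_card, hα] at h2
  exact h2

theorem sq_not_dvd_card {α : Type*} [Fintype α] [DecidableEq α] {p : ℕ}
    [Fact p.Prime] (hα : Fintype.card α = p) (G : Subgroup (Equiv.Perm α)) :
    ¬ p * p ∣ Nat.card G := by
  have hp : p.Prime := Fact.out
  intro h
  have h1 : Nat.card G ∣ Nat.card (Equiv.Perm α) := Subgroup.card_subgroup_dvd_card G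
  rw [Nat.card_eq_fintype_card (α := Equiv.Perm α), Fintype.card_perm, hα] at h1
  have h2 : p * p ∣ p.factorial := h.trans h1
  obtain ⟨m, hm⟩ : ∃ m, p = m + 1 := ⟨p - 1, by have := hp.pos; omega⟩
  rw [hm, Nat.factorial_succ, ← hm] at h2
  have h3 : p ∣ m.factorial := Nat.dvd_of_mul_dvd_mul_left hp.pos h2
  rw [hp.dvd_factorial] at h3
  omega

theorem card_sylow_eq {α : Type*} [Fintype α] [DecidableEq α] {p : ℕ} [Fact p.Prime]
    (hα : Fintype.card α = p) (G : Subgroup (Equiv.Perm α)) [MulAction.IsPretransitive G α]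
    (P : Sylow p G) : Nat.card P = p := by
  have hp : p.Prime := Fact.out
  have h1 := P.dvd_card_of_dvd_card (prime_dvd_card_of_transitive hα G)
  obtain ⟨n, hn⟩ := IsPGroup.iff_card.mp P.isPGroup'
  have hn' : Nat.card P = p ^ n := hn
  have h2 : Nat.card P ∣ Nat.card G := Subgroup.card_subgroup_dvd_card (P : Subgroup G)
  rw [hn'] at h1 h2 ⊢
  have hn1 : n ≠ 0 := by
    rintro rfl
    rw [pow_zero] at h1
    exact hp.one_lt.ne' (Nat.dvd_one.mp h1)
  have hn2 : n < 2 := by
    by_contra hcon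
    push Not at hcon
    apply sq_not_dvd_card hα G
    refine dvd_trans ?_ h2
    rw [← pow_two]
    exact pow_dvd_pow p hcon
  have : n = 1 := by omega
  rw [this, pow_one]

theorem exists_t_sigma {α : Type*} [Fintype α] [DecidableEq α] {p : ℕ} [Fact p.Prime]
    (hα : Fintype.card α = p) (G : Subgroup (Equiv.Perm α)) [MulAction.IsPretransitive G α]
    (P : Sylow p G) (heven : Even (Nat.card (Subgroup.normalizer ((P : Subgroup G) : Set G)))) :
    ∃ t σ : G, orderOf t = p ∧ orderOf σ = 2 ∧ ∃ k : ℕ, σ * t * σ⁻¹ = t ^ k := by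
  have hp : p.Prime := Fact.out
  have hP := card_sylow_eq hα G P
  obtain ⟨t, ht⟩ := exists_prime_orderOf_dvd_card' (G := (P : Subgroup G)) p (by rw [hP])
  have ht' : orderOf (t : G) = p := by
    rw [Subgroup.orderOf_coe]
    exact ht
  have hz : Subgroup.zpowers (t : G) = (P : Subgroup G) := by
    apply Subgroup.eq_of_le_of_card_ge
    · rw [Subgroup.zpowers_le]
      exact t.2
    · rw [Nat.card_zpowers, ht']
      exact hP.le
  haveI : Fact (Nat.Prime 2) := ⟨Nat.prime_two⟩
  obtain ⟨σ, hσ⟩ := exists_prime_orderOf_dvd_card'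
    (G := Subgroup.normalizer ((P : Subgroup G) : Set G)) 2 (even_iff_two_dvd.mp heven)
  have hσ' : orderOf (σ : G) = 2 := by
    rw [Subgroup.orderOf_coe]
    exact hσ
  have hmem : (σ : G) * t * (σ : G)⁻¹ ∈ Subgroup.zpowers (t : G) := by
    have h1 : (σ : G) * t * (σ : G)⁻¹ ∈ (P : Subgroup G) :=
      (Subgroup.mem_normalizer_iff.mp σ.2 t).mp t.2
    rw [hz]
    exact h1
  have hfin : IsOfFinOrder (t : G) := isOfFinOrder_of_finite _
  rw [← hfin.mem_powers_iff_mem_zpowers, Submonoid.mem_powers_iff] at hmem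
  obtain ⟨k, hk⟩ := hmem
  exact ⟨t, σ, ht', hσ', k, hk.symm⟩

theorem equiv_of_cycle {α : Type*} [Fintype α] [DecidableEq α] {p : ℕ} [Fact p.Prime]
    (hα : Fintype.card α = p) (t : Equiv.Perm α) (ht' : orderOf t = p) :
    ∃ e : ZMod p ≃ α, ∀ j, t (e j) = e (j + 1) := by
  have hp : p.Prime := Fact.out
  haveI : Nonempty α := by
    rw [← Fintype.card_pos_iff, hα]
    exact hp.pos
  obtain ⟨a₀⟩ := ‹Nonempty α›
  have hcyc : t.IsCycle :=
    Equiv.Perm.isCycle_of_prime_order'' (by rw [hα]; exact hp) (by rw [ht', hα])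
  have hsupp : t.support = Finset.univ := by
    apply Finset.eq_univ_of_card
    rw [← hcyc.orderOf, ht', hα]
  have hmoved : ∀ a : α, t a ≠ a := by
    intro a
    rw [← Equiv.Perm.mem_support, hsupp]
    exact Finset.mem_univ a
  obtain ⟨e₀, he₀⟩ : ∃ e₀ : ZMod p → α, ∀ j, e₀ j = (t ^ j.val) a₀ :=
    ⟨_, fun _ => rfl⟩
  have hnat : ∀ n : ℕ, (t ^ n) a₀ = e₀ (n : ZMod p) := by
    intro n
    rw [he₀, ZMod.val_natCast]
    conv_rhs => rw [← ht', pow_mod_orderOf]
  have hsurj : Function.Surjective e₀ := by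
    intro a
    obtain ⟨i, hi⟩ := hcyc.exists_pow_eq (hmoved a₀) (hmoved a)
    exact ⟨(i : ZMod p), by rw [← hnat, hi]⟩
  have hbij : Function.Bijective e₀ :=
    (Fintype.bijective_iff_surjective_and_card e₀).mpr ⟨hsurj, by rw [ZMod.card, hα]⟩
  refine ⟨Equiv.ofBijective e₀ hbij, ?_⟩
  intro j
  rw [Equiv.ofBijective_apply, Equiv.ofBijective_apply, he₀, ← Equiv.Perm.mul_apply, ← pow_succ',
    hnat, Nat.cast_succ, ZMod.natCast_zmod_val]

theorem pow_apply_coord {α : Type*} {p : ℕ} (t : Equiv.Perm α) (e : ZMod p ≃ α)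
    (het : ∀ j, t (e j) = e (j + 1)) (n : ℕ) (j : ZMod p) : (t ^ n) (e j) = e (j + n) := by
  induction n with
  | zero => simp
  | succ n ih =>
    rw [pow_succ', Equiv.Perm.mul_apply, ih, het, Nat.cast_succ, add_assoc]

theorem exists_coords {α : Type*} [Fintype α] [DecidableEq α] {p : ℕ} [Fact p.Prime]
    (hp2 : p ≠ 2) (hα : Fintype.card α = p) (t σ : Equiv.Perm α) (ht : orderOf t = p)
    (hσ : orderOf σ = 2) (k : ℕ) (hk : σ * t * σ⁻¹ = t ^ k) :
    ∃ e : ZMod p ≃ α, (∀ j, t (e j) = e (j + 1)) ∧ (∀ j, σ (e j) = e (-j)) := by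
  have hp : p.Prime := Fact.out
  obtain ⟨e₁, he₁⟩ := equiv_of_cycle hα t ht
  have h2ne : (2 : ZMod p) ≠ 0 := by
    intro h
    have h' : ((2 : ℕ) : ZMod p) = 0 := by
      rw [← h]
      norm_num
    rw [ZMod.natCast_eq_zero_iff] at h'
    have := Nat.le_of_dvd (by norm_num) h'
    have := hp.two_le
    omega
  obtain ⟨c, hc⟩ : ∃ c, c = e₁.symm (σ (e₁ 0)) := ⟨_, rfl⟩
  have hσe : ∀ j : ZMod p, σ (e₁ j) = e₁ (c + k * j) := by
    intro j
    have h1 : e₁ j = (t ^ j.val) (e₁ 0) := by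
      rw [pow_apply_coord t e₁ he₁, zero_add, ZMod.natCast_zmod_val]
    have h2 : σ * t ^ j.val = (t ^ k) ^ j.val * σ := by
      rw [← hk, conj_pow, inv_mul_cancel_right]
    rw [h1, ← Equiv.Perm.mul_apply, h2, Equiv.Perm.mul_apply, ← pow_mul,
      show σ (e₁ 0) = e₁ c by rw [hc, Equiv.apply_symm_apply], pow_apply_coord t e₁ he₁,
      Nat.cast_mul, ZMod.natCast_zmod_val]
  have hσσ : ∀ x, σ (σ x) = x := by
    intro x
    have h1 : σ ^ 2 = 1 := by
      rw [← hσ]
      exact pow_orderOf_eq_one σ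
    rw [← Equiv.Perm.mul_apply, ← pow_two, h1, Equiv.Perm.one_apply]
  have hrel : ∀ j : ZMod p, j = c + k * (c + k * j) := by
    intro j
    apply e₁.injective
    rw [← hσe, ← hσe, hσσ]
  have hk2 : ((k : ZMod p) - 1) * ((k : ZMod p) + 1) = 0 := by
    have h0 := hrel 0
    have h1 := hrel 1
    rw [mul_zero, add_zero] at h0
    rw [mul_one] at h1
    have h1' : (1 : ZMod p) = (c + (k : ZMod p) * c) + (k : ZMod p) * (k : ZMod p) := by
      rw [h1]
      ring
    rw [← h0, zero_add] at h1'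
    have : ((k : ZMod p) - 1) * ((k : ZMod p) + 1) = (k : ZMod p) * (k : ZMod p) - 1 := by ring
    rw [this, ← h1', sub_self]
  rcases mul_eq_zero.mp hk2 with hk1 | hk1
  · exfalso
    have hk1' : (k : ZMod p) = 1 := sub_eq_zero.mp hk1
    have h0 := hrel 0
    rw [mul_zero, add_zero, hk1', one_mul] at h0
    have hc0 : c = 0 := by
      have : c * 2 = 0 := by
        rw [mul_two]
        exact h0.symm
      rcases mul_eq_zero.mp this with h | h
      · exact h
      · exact absurd h h2ne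
    have hσ1 : σ = 1 := by
      apply Equiv.ext
      intro x
      obtain ⟨j, rfl⟩ := e₁.surjective x
      rw [hσe, hc0, hk1', zero_add, one_mul, Equiv.Perm.one_apply]
    rw [hσ1, orderOf_one] at hσ
    omega
  · have hk1' : (k : ZMod p) = -1 := eq_neg_of_add_eq_zero_left hk1
    obtain ⟨h, hh⟩ : ∃ h : ZMod p, h = c * 2⁻¹ := ⟨_, rfl⟩
    have hch : c = h + h := by
      rw [hh, ← mul_two, mul_assoc, inv_mul_cancel₀ h2ne, mul_one]
    refine ⟨(Equiv.addRight h).trans e₁, ?_, ?_⟩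
    · intro j
      simp only [Equiv.trans_apply, Equiv.coe_addRight]
      rw [he₁, add_right_comm]
    · intro j
      simp only [Equiv.trans_apply, Equiv.coe_addRight]
      rw [hσe, hk1', hch]
      congr 1
      ring

theorem affine_or_heart {α : Type*} [Fintype α] [DecidableEq α] {p : ℕ} [Fact p.Prime]
    (hα : Fintype.card α = p) (G : Subgroup (Equiv.Perm α))
    {K : Type*} [Field K] [CharP K p] (t : Equiv.Perm α) (htG : t ∈ G) (e : ZMod p ≃ α)
    (het : ∀ j, t (e j) = e (j + 1)) :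
    (∀ g : G, ∃ A B : K, ∀ j,
      (ZMod.cast (e.symm ((g : Equiv.Perm α) (e j))) : K) = A * ZMod.cast j + B) ∨
    (∀ W : Subrepresentation (Cfsg.permRep K G α),
      (Cfsg.permConstants K G α).toSubmodule ≤ W.toSubmodule →
      W.toSubmodule ≤ (Cfsg.permSumZero K G α).toSubmodule →
      W = Cfsg.permConstants K G α ∨ W = Cfsg.permSumZero K G α) := by
  have hp : p.Prime := Fact.out
  by_cases hex : ∀ W : Subrepresentation (Cfsg.permRep K G α),
      (Cfsg.permConstants K G α).toSubmodule ≤ W.toSubmodule →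
      W.toSubmodule ≤ (Cfsg.permSumZero K G α).toSubmodule →
      W = Cfsg.permConstants K G α ∨ W = Cfsg.permSumZero K G α
  · exact Or.inr hex
  left
  push Not at hex
  obtain ⟨W, h₁, h₂, hneC, hneS⟩ := hex
  have het' : ∀ j, e (j - 1) = t⁻¹ (e j) := by
    intro j
    rw [Equiv.Perm.eq_inv_iff_eq, het, sub_add_cancel]
  obtain ⟨E, hE⟩ : ∃ E : (α → K) ≃ₗ[K] (ZMod p → K), ∀ f : α → K, E f = f ∘ e :=
    ⟨LinearEquiv.funCongrLeft K K e, fun f => rfl⟩
  obtain ⟨U, hU⟩ : ∃ U : Submodule K (ZMod p → K),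
      U = W.toSubmodule.map (E : (α → K) →ₗ[K] (ZMod p → K)) := ⟨_, rfl⟩
  have hmemU : ∀ f : ZMod p → K, f ∈ U ↔ ∃ h ∈ W.toSubmodule, h ∘ e = f := by
    intro f
    rw [hU, Submodule.mem_map]
    constructor
    · rintro ⟨h, hh, rfl⟩
      exact ⟨h, hh, (hE h).symm⟩
    · rintro ⟨h, hh, rfl⟩
      exact ⟨h, hh, hE h⟩
  have hfinU : Module.finrank K U = Module.finrank K W.toSubmodule := by
    rw [hU]
    exact LinearEquiv.finrank_map_eq E W.toSubmodule
  have hshift : ∀ f ∈ U, (fun j => f (j - 1)) ∈ U := by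
    intro f hf
    obtain ⟨h, hh, rfl⟩ := (hmemU f).mp hf
    refine (hmemU _).mpr ⟨Cfsg.permRep K G α ⟨t, htG⟩ h, W.apply_mem_toSubmodule _ hh, ?_⟩
    funext j
    change h ((⟨t, htG⟩ : G)⁻¹ • e j) = h (e (j - 1))
    rw [het']
    rfl
  obtain ⟨Γ, hΓdef⟩ : ∃ Γ : Subgroup (Equiv.Perm (ZMod p)),
      Γ = G.map (e.symm.permCongrHom.toMonoidHom) := ⟨_, rfl⟩
  have hΓ : ∀ γ ∈ Γ, ∀ f ∈ U, f ∘ γ ∈ U := by
    intro γ hγ f hf
    rw [hΓdef, Subgroup.mem_map] at hγ
    obtain ⟨g, hg, rfl⟩ := hγ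
    obtain ⟨h, hh, rfl⟩ := (hmemU f).mp hf
    refine (hmemU _).mpr ⟨Cfsg.permRep K G α (⟨g, hg⟩ : G)⁻¹ h, W.apply_mem_toSubmodule _ hh, ?_⟩
    funext j
    change h (((⟨g, hg⟩ : G)⁻¹)⁻¹ • e j) = h (e (e.symm (g (e j))))
    rw [inv_inv, Equiv.apply_symm_apply]
    rfl
  have hone_mem : (fun _ : α => (1 : K)) ∈ W.toSubmodule := h₁ (Submodule.subset_span rfl)
  have hone_ne : (fun _ : α => (1 : K)) ≠ 0 := by
    intro h0
    have := congrFun h0 (e 0)
    simp at this
  have h1 : 1 ≤ Module.finrank K W.toSubmodule := by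
    rw [Nat.succ_le_iff, Module.finrank_pos_iff_exists_ne_zero]
    refine ⟨⟨fun _ => 1, hone_mem⟩, ?_⟩
    intro h0
    exact hone_ne (congrArg Subtype.val h0)
  have hSlt : (Cfsg.permSumZero K G α).toSubmodule < ⊤ := by
    rw [lt_top_iff_ne_top]
    intro htop
    have hmem : (Pi.single (e 0) (1 : K) : α → K) ∈ (Cfsg.permSumZero K G α).toSubmodule := by
      rw [htop]
      exact Submodule.mem_top
    have hsum : ∑ x, (Pi.single (e 0) (1 : K) : α → K) x = 0 := hmem
    rw [Finset.sum_pi_single'] at hsum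
    simp at hsum
  have hfull : Module.finrank K (α → K) = p := by
    rw [Module.finrank_fintype_fun_eq_card, hα]
  have hSfin : Module.finrank K (Cfsg.permSumZero K G α).toSubmodule < p := by
    have := Submodule.finrank_lt hSlt.ne
    rw [hfull] at this
    exact this
  have hWle : Module.finrank K W.toSubmodule ≤
      Module.finrank K (Cfsg.permSumZero K G α).toSubmodule :=
    Submodule.finrank_mono h₂
  have hr1 : Module.finrank K W.toSubmodule ≠ 1 := by
    intro hr1
    apply hneC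
    apply Subrepresentation.toSubmodule_injective
    symm
    apply Submodule.eq_of_le_of_finrank_eq h₁
    rw [hr1]
    exact finrank_span_singleton hone_ne
  have hr2 : Module.finrank K W.toSubmodule ≠ p - 1 := by
    intro hr2
    apply hneS
    apply Subrepresentation.toSubmodule_injective
    apply Submodule.eq_of_le_of_finrank_le h₂
    omega
  have hAff := affine_core Γ U hshift hΓ (by rw [hfinU]; omega) (by rw [hfinU]; omega)
  intro g
  have hmem : e.symm.permCongrHom.toMonoidHom (g : Equiv.Perm α) ∈ Γ := by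
    rw [hΓdef]
    exact Subgroup.mem_map_of_mem _ g.2
  exact hAff _ hmem

theorem coord_mem_sumZero {α : Type*} [Fintype α] [DecidableEq α] {p : ℕ} [Fact p.Prime]
    (hp2 : p ≠ 2) (G : Subgroup (Equiv.Perm α))
    {K : Type*} [Field K] [CharP K p] (e : ZMod p ≃ α) :
    (fun a : α => (ZMod.cast (e.symm a) : K)) ∈ (Cfsg.permSumZero K G α).toSubmodule := by
  have hp : p.Prime := Fact.out
  change ∑ a : α, (ZMod.cast (e.symm a) : K) = 0
  rw [Equiv.sum_comp e.symm (fun j : ZMod p => (ZMod.cast j : K))]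
  have h := sum_eval_eq_zero (p := p) (K := K) Polynomial.X (by
    rw [Polynomial.natDegree_X]
    have := hp.two_le
    omega)
  simpa using h

theorem affine_or_two_trans {α : Type*} [Fintype α] [DecidableEq α] {p : ℕ} [Fact p.Prime]
    (hp2 : p ≠ 2) (hα : Fintype.card α = p) (G : Subgroup (Equiv.Perm α))
    [MulAction.IsPretransitive G α]
    {K : Type*} [Field K] [CharP K p] (t : Equiv.Perm α) (htG : t ∈ G) (e : ZMod p ≃ α)
    (het : ∀ j, t (e j) = e (j + 1)) :
    (∀ g : G, ∃ A B : K, ∀ j,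
      (ZMod.cast (e.symm ((g : Equiv.Perm α) (e j))) : K) = A * ZMod.cast j + B) ∨
    (MulAction.IsMultiplyPretransitive G α 2 ∧
      ∀ W : Subrepresentation (Cfsg.permRep K G α),
      (Cfsg.permConstants K G α).toSubmodule ≤ W.toSubmodule →
      W.toSubmodule ≤ (Cfsg.permSumZero K G α).toSubmodule →
      W = Cfsg.permConstants K G α ∨ W = Cfsg.permSumZero K G α) := by
  rcases affine_or_heart (K := K) hα G t htG e het with h | h
  · exact Or.inl h
  by_cases htriv : ∀ g : G, ∀ v ∈ (Cfsg.permSumZero K G α).toSubmodule,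
      Cfsg.permRep K G α g v - v ∈ (Cfsg.permConstants K G α).toSubmodule
  · left
    intro g
    have h1 := htriv g⁻¹ _ (coord_mem_sumZero (K := K) hp2 G e)
    have h1' : Cfsg.permRep K G α g⁻¹ (fun a : α => (ZMod.cast (e.symm a) : K)) -
        (fun a : α => (ZMod.cast (e.symm a) : K)) ∈
        Submodule.span K {fun _ : α => (1 : K)} := h1
    rw [Submodule.mem_span_singleton] at h1'
    obtain ⟨c, hc⟩ := h1'
    refine ⟨1, c, ?_⟩
    intro j
    have h2 := congrFun hc (e j)
    have h3 : c * 1 = (ZMod.cast (e.symm ((g⁻¹)⁻¹ • e j)) : K) - ZMod.cast (e.symm (e j)) := h2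
    rw [mul_one, inv_inv, Equiv.symm_apply_apply] at h3
    have h4 : (g • e j) = (g : Equiv.Perm α) (e j) := rfl
    rw [h4] at h3
    rw [h3]
    ring
  · right
    refine ⟨?_, h⟩
    push Not at htriv
    obtain ⟨g, v, hv, hgv⟩ := htriv
    apply Cfsg.Agent.S0671.result (K := K) (p := p) (f := 1) le_rfl (by rw [pow_one]; exact hα)
    intro W W' hCW hlt hW'S
    have hW := h W hCW (hlt.le.trans hW'S)
    have hW' := h W' (hCW.trans hlt.le) hW'S
    have hWC : W = Cfsg.permConstants K G α := by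
      rcases hW with h | h
      · exact h
      · exfalso
        rw [h] at hlt
        exact absurd hW'S (not_le_of_gt hlt)
    have hW'S' : W' = Cfsg.permSumZero K G α := by
      rcases hW' with h | h
      · exfalso
        rw [h] at hlt
        exact absurd hCW (not_le_of_gt hlt)
      · exact h
    rw [hWC, hW'S']
    exact ⟨g, v, hv, hgv⟩

end Cfsg.Agent.Lib.helper29
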