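import Mathlib
import Cfsg.Agent.Lib.helper29.AffPermBase
import Cfsg.Agent.Lib.helper29.PrimeDeg

set_option autoImplicit false

namespace Cfsg.Agent.Lib.helper29


theorem card_affineGroup (p : ℕ) [Fact p.Prime] :
    Nat.card (Cfsg.affineGroup (ZMod p)) = p * (p - 1) := by
  obtain ⟨ψ, hψ⟩ : ∃ ψ : (ZMod p)ˣ × ZMod p → Cfsg.affineGroup (ZMod p),
      ∀ x, ψ x = ⟨affPerm x.1 x.2, affPerm_mem x.1 x.2⟩ := ⟨_, fun _ => rfl⟩
  have hbij : Function.Bijective ψ := by
    constructor
    · rintro ⟨a, b⟩ ⟨a', b'⟩ h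
      rw [hψ, hψ] at h
      have h' : affPerm a b = affPerm a' b' := congrArg Subtype.val h
      have h0 := congrArg (fun g : Equiv.Perm (ZMod p) => g 0) h'
      have h1 := congrArg (fun g : Equiv.Perm (ZMod p) => g 1) h'
      simp only [affPerm_apply, mul_zero, zero_add, mul_one] at h0 h1
      rw [h0] at h1
      have h2 : (a : ZMod p) = a' := add_right_cancel h1
      rw [Prod.mk.injEq]
      exact ⟨Units.ext h2, h0⟩
    · rintro ⟨g, a, b, hg⟩
      refine ⟨(a, b), ?_⟩
      rw [hψ]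
      apply Subtype.ext
      ext x
      rw [affPerm_apply, hg]
  rw [← Nat.card_eq_of_bijective ψ hbij, Nat.card_prod, Nat.card_eq_fintype_card,
    Nat.card_eq_fintype_card, ZMod.card_units, ZMod.card, mul_comm]

theorem tau_pow_apply (p : ℕ) [Fact p.Prime] (n : ℕ) (x : ZMod p) :
    ((affPerm (1 : (ZMod p)ˣ) 1) ^ n) x = x + n := by
  induction n generalizing x with
  | zero => simp
  | succ n ih =>
    rw [pow_succ, Equiv.Perm.mul_apply, ih, affPerm_apply]
    push_cast
    ring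

theorem agl_le_normalizer (p : ℕ) [Fact p.Prime] :
    Cfsg.affineGroup (ZMod p) ≤
      Subgroup.normalizer ((Subgroup.zpowers (affPerm (1 : (ZMod p)ˣ) 1) :
        Subgroup (Equiv.Perm (ZMod p))) : Set (Equiv.Perm (ZMod p))) := by
  rw [Subgroup.le_normalizer_iff]
  rintro h ⟨a, b, hh⟩ k hk
  obtain ⟨n, rfl⟩ := Subgroup.mem_zpowers_iff.mp hk
  have h1 : h * affPerm (1 : (ZMod p)ˣ) 1 * h⁻¹ = (affPerm (1 : (ZMod p)ˣ) 1) ^ (a : ZMod p).val := by
    ext x
    rw [tau_pow_apply, ZMod.natCast_zmod_val, Equiv.Perm.mul_apply, Equiv.Perm.mul_apply,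
      affPerm_apply, hh]
    have h2 : h (h⁻¹ x) = x := by
      rw [Equiv.Perm.inv_def, Equiv.apply_symm_apply]
    rw [hh] at h2
    simp only [Units.val_one, one_mul]
    linear_combination h2
  rw [← conj_zpow, h1]
  exact Subgroup.zpow_mem _ (Subgroup.pow_mem _ (Subgroup.mem_zpowers _) _) _

theorem mem_affineGroup_of_conj (p : ℕ) [Fact p.Prime] (γ : Equiv.Perm (ZMod p))
    (h : γ * affPerm (1 : (ZMod p)ˣ) 1 * γ⁻¹ ∈
      Subgroup.zpowers (affPerm (1 : (ZMod p)ˣ) 1)) : γ ∈ Cfsg.affineGroup (ZMod p) := by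
  have hfin : IsOfFinOrder (affPerm (1 : (ZMod p)ˣ) 1) := isOfFinOrder_of_finite _
  rw [← hfin.mem_powers_iff_mem_zpowers, Submonoid.mem_powers_iff] at h
  obtain ⟨n, hn⟩ := h
  have hstep : ∀ j : ZMod p, γ (j + 1) = γ j + n := by
    intro j
    have h1 := congrArg (fun g : Equiv.Perm (ZMod p) => g (γ j)) hn
    simp only [Equiv.Perm.mul_apply, tau_pow_apply, affPerm_apply, Units.val_one, one_mul] at h1
    rw [Equiv.Perm.inv_def, Equiv.symm_apply_apply] at h1
    exact h1.symm
  have hnat : ∀ m : ℕ, γ (m : ZMod p) = (n : ZMod p) * m + γ 0 := by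
    intro m
    induction m with
    | zero => simp
    | succ m ih =>
      rw [Nat.cast_succ, hstep, ih]
      ring
  have hall : ∀ j : ZMod p, γ j = (n : ZMod p) * j + γ 0 := by
    intro j
    have h1 := hnat j.val
    rwa [ZMod.natCast_zmod_val] at h1
  have hn0 : (n : ZMod p) ≠ 0 := by
    intro h0
    have h1 : γ 0 = γ 1 := by rw [hall 1, h0]; simp
    exact zero_ne_one (γ.injective h1)
  exact ⟨Units.mk0 _ hn0, γ 0, hall⟩

theorem card_normalizer_of_coords {α : Type*} [Fintype α] [DecidableEq α] (p : ℕ) [Fact p.Prime]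
    (t : Equiv.Perm α) (ι : ZMod p → α) (hinj : Function.Injective ι)
    (het : ∀ j, t (ι j) = ι (j + 1)) (hfix : ∀ x, x ∉ Set.range ι → t x = x)
    (hone : ∀ x y, x ∉ Set.range ι → y ∉ Set.range ι → x = y) :
    Nat.card (Subgroup.normalizer ((Subgroup.zpowers t : Subgroup (Equiv.Perm α)) :
      Set (Equiv.Perm α))) = p * (p - 1) := by
  classical
  obtain ⟨f, hf⟩ : ∃ f : ZMod p ≃ {x // x ∈ Set.range ι}, ∀ j, (f j : α) = ι j :=
    ⟨Equiv.ofInjective ι hinj, fun j => rfl⟩
  obtain ⟨E, hEdef⟩ : ∃ E : Equiv.Perm (ZMod p) →* Equiv.Perm α,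
      E = Equiv.Perm.extendDomainHom f := ⟨_, rfl⟩
  have hEinj : Function.Injective E := by
    rw [hEdef]; exact Equiv.Perm.extendDomainHom_injective f
  have hE_apply : ∀ (γ : Equiv.Perm (ZMod p)) (j : ZMod p), E γ (ι j) = ι (γ j) := by
    intro γ j
    rw [hEdef, ← hf, ← hf]
    exact Equiv.Perm.extendDomain_apply_image γ f j
  have hE_fix : ∀ (γ : Equiv.Perm (ZMod p)) (x : α), x ∉ Set.range ι → E γ x = x := by
    intro γ x hx
    rw [hEdef]
    exact Equiv.Perm.extendDomain_apply_not_subtype γ f hx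
  have htE : t = E (affPerm 1 1) := by
    ext x
    by_cases hx : x ∈ Set.range ι
    · obtain ⟨j, rfl⟩ := hx
      rw [hE_apply, het, affPerm_apply]
      simp
    · rw [hE_fix _ _ hx, hfix _ hx]
  have hzp : Subgroup.zpowers t = (Subgroup.zpowers (affPerm (1 : (ZMod p)ˣ) 1)).map E := by
    rw [MonoidHom.map_zpowers, htE]
  have hmoved : ∀ j, t (ι j) ≠ ι j := by
    intro j h
    rw [het] at h
    have h1 := hinj h
    have h2 : (1 : ZMod p) = 0 := by linear_combination h1
    exact one_ne_zero h2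
  have hzfix : ∀ s ∈ Subgroup.zpowers t, ∀ x, x ∉ Set.range ι → s x = x := by
    intro s hs x hx
    rw [hzp] at hs
    obtain ⟨γ, -, rfl⟩ := hs
    exact hE_fix γ x hx
  have hpres : ∀ g ∈ Subgroup.normalizer ((Subgroup.zpowers t : Subgroup (Equiv.Perm α)) :
      Set (Equiv.Perm α)), ∀ j, g (ι j) ∈ Set.range ι := by
    intro g hg j
    by_contra hcon
    have h1 : g * t * g⁻¹ ∈ Subgroup.zpowers t :=
      (Subgroup.mem_normalizer_iff.mp hg t).mp (Subgroup.mem_zpowers t)
    have h2 := hzfix _ h1 _ hcon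
    rw [Equiv.Perm.mul_apply, Equiv.Perm.mul_apply, Equiv.Perm.inv_def,
      Equiv.symm_apply_apply] at h2
    exact hmoved j (g.injective h2)
  have hNeq : Subgroup.normalizer ((Subgroup.zpowers t : Subgroup (Equiv.Perm α)) :
      Set (Equiv.Perm α)) = (Cfsg.affineGroup (ZMod p)).map E := by
    apply le_antisymm
    · intro g hg
      have hginv : g⁻¹ ∈ Subgroup.normalizer ((Subgroup.zpowers t : Subgroup (Equiv.Perm α)) :
          Set (Equiv.Perm α)) := Subgroup.inv_mem _ hg
      have h1 : ∀ j, ∃ j', ι j' = g (ι j) := fun j => hpres g hg j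
      choose γ₀ hγ₀ using h1
      have hγinj : Function.Injective γ₀ := by
        intro i j hij
        have h3 : g (ι i) = g (ι j) := by rw [← hγ₀, ← hγ₀, hij]
        exact hinj (g.injective h3)
      obtain ⟨γ, hγ⟩ : ∃ γ : Equiv.Perm (ZMod p), ∀ j, γ j = γ₀ j :=
        ⟨Equiv.ofBijective γ₀ (Finite.injective_iff_bijective.mp hγinj), fun j => rfl⟩
      have hout : ∀ x, x ∉ Set.range ι → g x = x := by
        intro x hx
        apply hone _ _ ?_ hx
        intro hgx
        obtain ⟨j, hj⟩ := hgx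
        have h4 := hpres g⁻¹ hginv j
        rw [hj, Equiv.Perm.inv_def, Equiv.symm_apply_apply] at h4
        exact hx h4
      have hgE : g = E γ := by
        ext x
        by_cases hx : x ∈ Set.range ι
        · obtain ⟨j, rfl⟩ := hx
          rw [hE_apply, hγ, hγ₀]
        · rw [hE_fix _ _ hx, hout _ hx]
      refine ⟨γ, ?_, hgE.symm⟩
      apply mem_affineGroup_of_conj
      have h2 : g * t * g⁻¹ ∈ Subgroup.zpowers t :=
        (Subgroup.mem_normalizer_iff.mp hg t).mp (Subgroup.mem_zpowers t)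
      rw [hzp, hgE, htE, ← map_inv, ← map_mul, ← map_mul] at h2
      obtain ⟨s, hs, hsE⟩ := h2
      rw [← hEinj hsE]; exact hs
    · rw [hzp]
      exact (Subgroup.map_mono (agl_le_normalizer p)).trans (Subgroup.le_normalizer_map E)
  rw [hNeq, Subgroup.card_map_of_injective hEinj, card_affineGroup]

end Cfsg.Agent.Lib.helper29
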