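import Mathlib
import Cfsg.Agent.Lib.helper20.Zipper
import Cfsg.Agent.Lib.helper3.SubnormalP

set_option autoImplicit false

namespace Cfsg.Agent.Lib.helper29.Subnz

open scoped Pointwise

universe u

section abs

/-- Weights on a finite poset summing to one below every element. -/
theorem exists_weights {α : Type*} [PartialOrder α] [DecidableEq α] [DecidableLE α] :
    ∀ (n : ℕ) (A : Finset α), A.card = n →
      ∃ w : α → ℤ, ∀ R ∈ A, ∑ T ∈ A.filter (· ≤ R), w T = 1 := by
  intro n
  induction n with
  | zero =>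
    intro A hA
    refine ⟨fun _ => 0, ?_⟩
    intro R hR
    rw [Finset.card_eq_zero] at hA
    simp [hA] at hR
  | succ n ih =>
    intro A hA
    have hne : A.Nonempty := by
      rw [← Finset.card_pos]; omega
    obtain ⟨m, hmax⟩ := A.exists_maximal hne
    have hm : m ∈ A := hmax.prop
    obtain ⟨w', hw'⟩ := ih (A.erase m) (by rw [Finset.card_erase_of_mem hm]; omega)
    refine ⟨Function.update w' m (1 - ∑ T ∈ (A.erase m).filter (· ≤ m), w' T), ?_⟩
    intro R hR
    by_cases hRm : R = m
    · subst hRm
      have e : A.filter (· ≤ R) = insert R ((A.erase R).filter (· ≤ R)) := by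
        ext T
        simp only [Finset.mem_filter, Finset.mem_insert, Finset.mem_erase]
        constructor
        · rintro ⟨h1, h2⟩
          by_cases hT : T = R
          · left; exact hT
          · right; exact ⟨⟨hT, h1⟩, h2⟩
        · rintro (rfl | ⟨⟨_, h1⟩, h2⟩)
          · exact ⟨hR, le_rfl⟩
          · exact ⟨h1, h2⟩
      rw [e, Finset.sum_insert (by simp)]
      rw [Function.update_self]
      have e2 : ∑ T ∈ (A.erase R).filter (· ≤ R),
          Function.update w' R (1 - ∑ T ∈ (A.erase R).filter (· ≤ R), w' T) T =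
          ∑ T ∈ (A.erase R).filter (· ≤ R), w' T := by
        apply Finset.sum_congr rfl
        intro T hT
        simp only [Finset.mem_filter, Finset.mem_erase] at hT
        rw [Function.update_of_ne hT.1.1]
      rw [e2]; ring
    · have e : A.filter (· ≤ R) = (A.erase m).filter (· ≤ R) := by
        ext T
        simp only [Finset.mem_filter, Finset.mem_erase]
        constructor
        · rintro ⟨h1, h2⟩
          refine ⟨⟨?_, h1⟩, h2⟩
          rintro rfl
          exact hRm (le_antisymm (hmax.le_of_ge hR h2) h2)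
        · rintro ⟨⟨_, h1⟩, h2⟩; exact ⟨h1, h2⟩
      rw [e, ← hw' R (Finset.mem_erase.mpr ⟨hRm, hR⟩)]
      apply Finset.sum_congr rfl
      intro T hT
      simp only [Finset.mem_filter, Finset.mem_erase] at hT
      rw [Function.update_of_ne hT.1.1]

/-- Closure lemma: a down-closed subfamily stable under joining with one of its members
has total weight one. -/
theorem closure_sum {α : Type*} [SemilatticeSup α] [Finite α] [DecidableEq α] [DecidableLE α]
    [DecidableLT α]
    (A X : Finset α) (w : α → ℤ) (hw : ∀ R ∈ A, ∑ T ∈ A.filter (· ≤ R), w T = 1)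
    (hXA : X ⊆ A) (hdown : ∀ T ∈ X, ∀ T' ∈ A, T' ≤ T → T' ∈ X) (r : α) (hr : r ∈ X)
    (hcl : ∀ T ∈ X, T ⊔ r ∈ X) : ∑ T ∈ X, w T = 1 := by
  set C : Finset α := X.filter (r ≤ ·) with hC
  set f : α → ℤ := fun Y => ∑ T ∈ X.filter (fun T => T ⊔ r = Y), w T with hf
  have hrC : r ∈ C := by simp [hC, hr]
  have h1 : ∑ T ∈ X, w T = ∑ Y ∈ C, f Y := by
    rw [← Finset.sum_fiberwise_of_maps_to (s := X) (t := C) (g := fun T => T ⊔ r)]
    intro T hT
    simp only [hC, Finset.mem_filter]
    exact ⟨hcl T hT, le_sup_right⟩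
  have h2 : ∀ Y ∈ C, ∑ Y' ∈ C.filter (· ≤ Y), f Y' = 1 := by
    intro Y hY
    have hYX : Y ∈ X := (Finset.mem_filter.mp hY).1
    have hrY : r ≤ Y := (Finset.mem_filter.mp hY).2
    have e1 : ∑ Y' ∈ C.filter (· ≤ Y), f Y' = ∑ T ∈ X.filter (fun T => T ⊔ r ≤ Y), w T := by
      rw [← Finset.sum_fiberwise_of_maps_to (s := X.filter (fun T => T ⊔ r ≤ Y))
        (t := C.filter (· ≤ Y)) (g := fun T => T ⊔ r)]
      · apply Finset.sum_congr rfl
        intro Y' hY'
        have hY'le : Y' ≤ Y := (Finset.mem_filter.mp hY').2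
        simp only [hf]
        apply Finset.sum_congr _ (fun _ _ => rfl)
        ext T
        simp only [Finset.mem_filter]
        constructor
        · rintro ⟨h, h'⟩; exact ⟨⟨h, h' ▸ hY'le⟩, h'⟩
        · rintro ⟨⟨h, _⟩, h'⟩; exact ⟨h, h'⟩
      · intro T hT
        simp only [Finset.mem_filter] at hT
        simp only [hC, Finset.mem_filter]
        exact ⟨⟨hcl T hT.1, le_sup_right⟩, hT.2⟩
    have e2 : X.filter (fun T => T ⊔ r ≤ Y) = A.filter (· ≤ Y) := by
      ext T
      simp only [Finset.mem_filter]
      constructor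
      · rintro ⟨h, h'⟩; exact ⟨hXA h, le_sup_left.trans h'⟩
      · rintro ⟨h, h'⟩; exact ⟨hdown Y hYX T h h', sup_le h' hrY⟩
    rw [e1, e2]
    exact hw Y (hXA hYX)
  have h3 : ∀ Y, Y ∈ C → f Y = if Y = r then 1 else 0 := by
    intro Y
    induction Y using (wellFounded_lt (α := α)).induction with
    | _ Y ih =>
      intro hY
      have hrY : r ≤ Y := (Finset.mem_filter.mp hY).2
      have e1 : C.filter (· ≤ Y) = insert Y (C.filter (· < Y)) := by
        ext T
        simp only [Finset.mem_filter, Finset.mem_insert]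
        constructor
        · rintro ⟨h, h'⟩
          rcases eq_or_lt_of_le h' with h'' | h''
          · left; exact h''
          · right; exact ⟨h, h''⟩
        · rintro (rfl | ⟨h, h'⟩)
          · exact ⟨hY, le_rfl⟩
          · exact ⟨h, h'.le⟩
      have e2 := h2 Y hY
      rw [e1, Finset.sum_insert (by simp)] at e2
      have e3 : ∑ Y' ∈ C.filter (· < Y), f Y' = ∑ Y' ∈ C.filter (· < Y), if Y' = r then 1 else 0 := by
        apply Finset.sum_congr rfl
        intro Y' hY'
        simp only [Finset.mem_filter] at hY'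
        exact ih Y' hY'.2 hY'.1
      rw [e3, Finset.sum_ite_eq'] at e2
      by_cases hYr : Y = r
      · subst hYr
        simp at e2
        simp [e2]
      · have hlt : r < Y := lt_of_le_of_ne hrY (Ne.symm hYr)
        have hmem : r ∈ C.filter (· < Y) := by simp [hrC, hlt]
        rw [if_pos hmem] at e2
        rw [if_neg hYr]; linarith
  rw [h1, Finset.sum_congr rfl (fun Y hY => h3 Y hY), Finset.sum_ite_eq', if_pos hrC]

theorem card_subtype_eq_sum {X : Type*} [Fintype X] (P : X → Prop) [DecidablePred P] :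
    (Nat.card {x : X // P x} : ℤ) = ∑ x : X, if P x then 1 else 0 := by
  rw [Nat.card_eq_fintype_card, Fintype.card_subtype, Finset.card_filter]
  push_cast
  rfl

end abs

section grp

variable {G : Type u} [Group G]

/-- `g` normalizes some `p`-subgroup containing `H`. -/
def SN (p : ℕ) (H : Subgroup G) (g : G) : Prop :=
  ∃ T : Subgroup G, IsPGroup p T ∧ H ≤ T ∧ g ∈ Subgroup.normalizer (T : Set G)

theorem SN_mono {p : ℕ} {H K : Subgroup G} (h : H ≤ K) {g : G} (hg : SN p K g) : SN p H g := by
  obtain ⟨T, hT, hKT, hgT⟩ := hg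
  exact ⟨T, hT, h.trans hKT, hgT⟩

theorem SN_subgroupOf_iff {p : ℕ} {N T : Subgroup G} (hTN : T ≤ N) (g : ↥N) :
    SN p (T.subgroupOf N) g ↔ SN p T (g : G) := by
  constructor
  · rintro ⟨T', hT', hle, hg⟩
    refine ⟨T'.map N.subtype, hT'.map _, ?_, ?_⟩
    · intro x hx
      exact ⟨⟨x, hTN hx⟩, hle (by rw [Subgroup.mem_subgroupOf]; exact hx), rfl⟩
    · exact Subgroup.le_normalizer_map N.subtype ⟨g, hg, rfl⟩
  · rintro ⟨T1, hT1, hle, hg⟩
    refine ⟨T1.subgroupOf N, hT1.comap_of_injective N.subtype N.subtype_injective, ?_, ?_⟩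
    · intro x hx
      rw [Subgroup.mem_subgroupOf] at hx ⊢
      exact hle hx
    · exact Subgroup.le_normalizer_comap N.subtype
        (show g ∈ (Subgroup.normalizer (T1 : Set G)).comap N.subtype from hg)

variable [Finite G] {p : ℕ} [Fact p.Prime]

theorem subn_iff (H : Subgroup G) (hH : IsPGroup p H) (g : G) :
    (H.subgroupOf (H ⊔ Subgroup.zpowers g)).IsSubnormal ↔ SN p H g := by
  constructor
  · intro h
    obtain ⟨L, hL⟩ : ∃ L, L = H ⊔ Subgroup.zpowers g := ⟨_, rfl⟩
    rw [← hL] at h
    have hHL : H ≤ L := hL ▸ le_sup_left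
    have hgL : g ∈ L := hL ▸ (le_sup_right : Subgroup.zpowers g ≤ _) (Subgroup.mem_zpowers g)
    have h1 : H.subgroupOf L ≤ Cfsg.pCore p ↥L :=
      Cfsg.Agent.Lib.helper3.subnormal_pgroup_le_pCore3 h
        (hH.comap_of_injective L.subtype L.subtype_injective)
    have hn := Cfsg.Agent.Lib.helper3.pCore_normal3 p ↥L
    refine ⟨(Cfsg.pCore p ↥L).map L.subtype,
      (Cfsg.Agent.Lib.helper3.pCore_isPGroup3 p ↥L).map _, ?_, ?_⟩
    · intro x hx
      exact ⟨⟨x, hHL hx⟩, h1 (by rw [Subgroup.mem_subgroupOf]; exact hx), rfl⟩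
    · refine Subgroup.le_normalizer_map L.subtype ⟨⟨g, hgL⟩, ?_, rfl⟩
      have : Subgroup.normalizer ((Cfsg.pCore p ↥L : Subgroup ↥L) : Set ↥L) = ⊤ :=
        Subgroup.normalizer_eq_top_iff.mpr hn
      rw [SetLike.mem_coe, this]
      exact Subgroup.mem_top _
  · rintro ⟨T, hT, hHT, hg⟩
    obtain ⟨K, hK⟩ : ∃ K, K = T ⊔ Subgroup.zpowers g := ⟨_, rfl⟩
    have hTK : T ≤ K := hK ▸ le_sup_left
    have hKN : K ≤ Subgroup.normalizer (T : Set G) := by
      rw [hK]; exact sup_le Subgroup.le_normalizer ((Subgroup.zpowers_le).mpr hg)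
    have h1 : (T.subgroupOf K).Normal :=
      (Subgroup.normal_subgroupOf_iff_le_normalizer hTK).2 hKN
    have h2 : (H.subgroupOf T).IsSubnormal := by
      haveI : Group.IsNilpotent ↥T := hT.isNilpotent
      exact Cfsg.Agent.Lib.helper20.subnormal_of_isNilpotent _
    have h3 := Cfsg.Agent.Lib.helper20.subn_trans hHT hTK h2 h1.isSubnormal
    refine Cfsg.Agent.Lib.helper20.subn_mono ?_ h3
    rw [hK]; exact sup_le_sup_right hHT _

theorem lt_normalizer_inf {H Q : Subgroup G} (hQ : IsPGroup p Q) (hHQ : H ≤ Q) (hne : H ≠ Q) :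
    H < Q ⊓ Subgroup.normalizer (H : Set G) := by
  haveI : Group.IsNilpotent ↥Q := hQ.isNilpotent
  have hne' : H.subgroupOf Q ≠ ⊤ := by
    intro h
    exact hne (le_antisymm hHQ (Subgroup.subgroupOf_eq_top.mp h))
  have hlt := Group.normalizerCondition_of_isNilpotent (H.subgroupOf Q)
    (lt_top_iff_ne_top.mpr hne')
  rw [← Subgroup.subgroupOf_normalizer_eq hHQ] at hlt
  obtain ⟨x, hx1, hx2⟩ := SetLike.exists_of_lt hlt
  refine lt_of_le_of_ne (le_inf hHQ Subgroup.le_normalizer) ?_
  intro h
  apply hx2
  rw [Subgroup.mem_subgroupOf] at hx1 ⊢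
  rw [h]
  exact ⟨x.2, hx1⟩

theorem card_smul_mem {Γ X : Type*} [Group Γ] [Finite Γ] [MulAction Γ X] [Finite X] (x : X)
    (A : Set X) :
    Nat.card {g : Γ // g • x ∈ A} =
      Nat.card {y : X // y ∈ A ∧ y ∈ MulAction.orbit Γ x} *
        Nat.card (MulAction.stabilizer Γ x) := by
  classical
  haveI : Fintype {y : X // y ∈ A ∧ y ∈ MulAction.orbit Γ x} := Fintype.ofFinite _
  let f : {g : Γ // g • x ∈ A} → {y : X // y ∈ A ∧ y ∈ MulAction.orbit Γ x} :=
    fun g => ⟨g.1 • x, g.2, ⟨g.1, rfl⟩⟩
  rw [← Nat.card_congr (Equiv.sigmaFiberEquiv f), Nat.card_sigma]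
  have key : ∀ y : {y : X // y ∈ A ∧ y ∈ MulAction.orbit Γ x},
      Nat.card {g : {g : Γ // g • x ∈ A} // f g = y} = Nat.card (MulAction.stabilizer Γ x) := by
    rintro ⟨y, hy1, ⟨g0, hg0⟩⟩
    have hg0' : g0 • x = y := hg0
    apply Nat.card_congr
    exact
      { toFun := fun g => ⟨g0⁻¹ * g.1.1, by
          have h1 : g.1.1 • x = y := congrArg Subtype.val g.2
          rw [MulAction.mem_stabilizer_iff, mul_smul, h1, ← hg0', inv_smul_smul]⟩
        invFun := fun s => ⟨⟨g0 * s.1, by
          rw [mul_smul, MulAction.mem_stabilizer_iff.mp s.2, hg0']; exact hy1⟩, by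
          apply Subtype.ext
          show (g0 * s.1) • x = y
          rw [mul_smul, MulAction.mem_stabilizer_iff.mp s.2, hg0']⟩
        left_inv := fun g => by
          apply Subtype.ext; apply Subtype.ext; simp
        right_inv := fun s => by
          apply Subtype.ext; simp }
  rw [Finset.sum_congr rfl (fun y _ => key y)]
  simp [Nat.card_eq_fintype_card]

theorem card_lt_of_lt {H T : Subgroup G} (h : H < T) : Nat.card H < Nat.card T := by
  by_contra hc
  push_neg at hc
  exact h.ne (Subgroup.eq_of_le_of_card_ge h.le hc)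

theorem card_SN_aux {p : ℕ} [Fact p.Prime] : ∀ (n : ℕ) (G : Type u) [Group G] [Finite G]
    (H : Subgroup G), IsPGroup p H → Nat.card G - Nat.card H = n → ∀ P : Sylow p G,
      Nat.card {g : G // SN p H g} =
        Nat.card {Q : Sylow p G // H ≤ (Q : Subgroup G)} *
          Nat.card (Subgroup.normalizer ((P : Subgroup G) : Set G)) := by
  intro n
  induction n using Nat.strong_induction_on with
  | _ n ih =>
  intro G _ _ H hH hn P
  classical
  haveI : Fintype G := Fintype.ofFinite G
  haveI : Fintype (Subgroup G) := Fintype.ofFinite _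
  haveI : Fintype (Sylow p G) := Fintype.ofFinite _
  by_cases hSyl : ∃ Q : Sylow p G, (Q : Subgroup G) = H
  · obtain ⟨Q0, rfl⟩ := hSyl
    have e1 : ∀ g, SN p (Q0 : Subgroup G) g ↔
        g ∈ Subgroup.normalizer ((Q0 : Subgroup G) : Set G) := by
      intro g
      constructor
      · rintro ⟨T, hT, hle, hg⟩
        rwa [Q0.is_maximal' hT hle] at hg
      · intro hg
        exact ⟨Q0, Q0.isPGroup', le_rfl, hg⟩
    have e2 : Nat.card {Q : Sylow p G // (Q0 : Subgroup G) ≤ (Q : Subgroup G)} = 1 := by
      rw [Nat.card_eq_one_iff_unique]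
      refine ⟨⟨?_⟩, ⟨⟨Q0, le_rfl⟩⟩⟩
      rintro ⟨a, ha⟩ ⟨b, hb⟩
      have h1 : (a : Subgroup G) = Q0 := Q0.is_maximal' a.isPGroup' ha
      have h2 : (b : Subgroup G) = Q0 := Q0.is_maximal' b.isPGroup' hb
      exact Subtype.ext (Sylow.ext (h1.trans h2.symm))
    rw [e2, one_mul, Nat.card_congr (Equiv.subtypeEquivRight e1)]
    have h1 : Nat.card (Sylow p G) =
        (Subgroup.normalizer ((Q0 : Subgroup G) : Set G)).index :=
      Sylow.card_eq_index_normalizer Q0
    have h2 : Nat.card (Sylow p G) =
        (Subgroup.normalizer ((P : Subgroup G) : Set G)).index :=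
      Sylow.card_eq_index_normalizer P
    have h3 := Subgroup.card_mul_index (Subgroup.normalizer ((Q0 : Subgroup G) : Set G))
    have h4 := Subgroup.card_mul_index (Subgroup.normalizer ((P : Subgroup G) : Set G))
    rw [← h1] at h3
    rw [← h2] at h4
    have hpos : 0 < Nat.card (Sylow p G) := Nat.card_pos
    exact Nat.eq_of_mul_eq_mul_right hpos (h3.trans h4.symm)
  · push_neg at hSyl
    obtain ⟨N, hN⟩ : ∃ N, N = Subgroup.normalizer (H : Set G) := ⟨_, rfl⟩
    have hHN : H ≤ N := hN ▸ Subgroup.le_normalizer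
    obtain ⟨𝒜, h𝒜⟩ : ∃ 𝒜 : Finset (Subgroup G),
        𝒜 = Finset.univ.filter (fun T : Subgroup G => IsPGroup p T ∧ H < T ∧ T ≤ N) := ⟨_, rfl⟩
    have hA_mem : ∀ T, T ∈ 𝒜 ↔ IsPGroup p T ∧ H < T ∧ T ≤ N := by
      intro T; rw [h𝒜]; simp
    obtain ⟨w, hw⟩ := exists_weights _ 𝒜 rfl
    have F1 : ∀ Q : Subgroup G, IsPGroup p Q → H ≤ Q → H ≠ Q → Q ⊓ N ∈ 𝒜 := by
      intro Q hQ hHQ hne
      rw [hA_mem]
      exact ⟨hQ.to_le inf_le_left, hN ▸ lt_normalizer_inf hQ hHQ hne, inf_le_right⟩
    have hcardlt : ∀ T ∈ 𝒜, Nat.card H < Nat.card T := by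
      intro T hT
      exact card_lt_of_lt ((hA_mem T).1 hT).2.1
    obtain ⟨cN, hcN⟩ : ∃ cN : ℕ, cN =
        Nat.card (Subgroup.normalizer ((P : Subgroup G) : Set G)) := ⟨_, rfl⟩
    rw [← hcN]
    -- Step A
    have stepA : ∑ T ∈ 𝒜, w T * (Nat.card {g : G // SN p T g} : ℤ) =
        (Nat.card {Q : Sylow p G // H ≤ (Q : Subgroup G)} : ℤ) * (cN : ℤ) := by
      have hIH : ∀ T ∈ 𝒜, (Nat.card {g : G // SN p T g} : ℤ) =
          (Nat.card {Q : Sylow p G // T ≤ (Q : Subgroup G)} : ℤ) * (cN : ℤ) := by
        intro T hT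
        have hTp := ((hA_mem T).1 hT).1
        have h1 := hcardlt T hT
        have h2 : Nat.card T ≤ Nat.card G := Subgroup.card_le_card_group T
        have := ih (Nat.card G - Nat.card T) (by omega) G T hTp rfl P
        rw [← hcN] at this
        exact_mod_cast this
      have e0 : ∑ T ∈ 𝒜, w T * (Nat.card {g : G // SN p T g} : ℤ) =
          (∑ T ∈ 𝒜, w T * (Nat.card {Q : Sylow p G // T ≤ (Q : Subgroup G)} : ℤ)) * (cN : ℤ) := by
        rw [Finset.sum_mul]
        apply Finset.sum_congr rfl
        intro T hT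
        rw [hIH T hT, mul_assoc]
      have e1 : ∑ T ∈ 𝒜, w T * (Nat.card {Q : Sylow p G // T ≤ (Q : Subgroup G)} : ℤ) =
          (Nat.card {Q : Sylow p G // H ≤ (Q : Subgroup G)} : ℤ) := by
        rw [card_subtype_eq_sum (fun Q : Sylow p G => H ≤ (Q : Subgroup G))]
        have e2 : ∀ T ∈ 𝒜, w T * (Nat.card {Q : Sylow p G // T ≤ (Q : Subgroup G)} : ℤ) =
            ∑ Q : Sylow p G, w T * (if T ≤ (Q : Subgroup G) then 1 else 0) := by
          intro T _
          rw [card_subtype_eq_sum (fun Q : Sylow p G => T ≤ (Q : Subgroup G)), Finset.mul_sum]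
        rw [Finset.sum_congr rfl e2, Finset.sum_comm]
        apply Finset.sum_congr rfl
        intro Q _
        by_cases hHQ : H ≤ (Q : Subgroup G)
        · rw [if_pos hHQ]
          have e : ∑ T ∈ 𝒜, w T * (if T ≤ (Q : Subgroup G) then (1 : ℤ) else 0) =
              ∑ T ∈ 𝒜.filter (· ≤ (Q : Subgroup G) ⊓ N), w T := by
            rw [Finset.sum_filter]
            apply Finset.sum_congr rfl
            intro T hT
            have hTN := ((hA_mem T).1 hT).2.2
            by_cases h : T ≤ (Q : Subgroup G)
            · rw [if_pos h, if_pos (le_inf h hTN), mul_one]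
            · rw [if_neg h, if_neg (fun h' => h (h'.trans inf_le_left)), mul_zero]
          rw [e]
          exact hw _ (F1 Q Q.isPGroup' hHQ (fun h => hSyl Q h.symm))
        · rw [if_neg hHQ]
          apply Finset.sum_eq_zero
          intro T hT
          have hlt := ((hA_mem T).1 hT).2.1
          rw [if_neg (fun h => hHQ (hlt.le.trans h)), mul_zero]
      rw [e0, e1]
    -- Step B
    have stepB : ∑ T ∈ 𝒜, w T * (Nat.card {g : G // SN p T g} : ℤ) =
        (Nat.card {g : G // SN p H g} : ℤ) := by
      have e0 : ∑ T ∈ 𝒜, w T * (Nat.card {g : G // SN p T g} : ℤ) =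
          ∑ g : G, ∑ T ∈ 𝒜, w T * (if SN p T g then 1 else 0) := by
        rw [Finset.sum_comm]
        apply Finset.sum_congr rfl
        intro T _
        rw [card_subtype_eq_sum (fun g : G => SN p T g), Finset.mul_sum]
      rw [e0, card_subtype_eq_sum (fun g : G => SN p H g)]
      rw [← Finset.sum_filter_add_sum_filter_not Finset.univ (fun g : G => g ∈ N)]
      rw [← Finset.sum_filter_add_sum_filter_not Finset.univ (fun g : G => g ∈ N)
        (fun g => if SN p H g then (1 : ℤ) else 0)]
      congr 1
      · -- elements of N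
        have eR : ∑ g ∈ Finset.univ.filter (fun g : G => g ∈ N),
            (if SN p H g then (1 : ℤ) else 0) = (Nat.card ↥N : ℤ) := by
          have : ∀ g ∈ Finset.univ.filter (fun g : G => g ∈ N),
              (if SN p H g then (1 : ℤ) else 0) = if g ∈ N then 1 else 0 := by
            intro g hg
            simp only [Finset.mem_filter, Finset.mem_univ, true_and] at hg
            rw [if_pos hg, if_pos ⟨H, hH, le_rfl, hN ▸ hg⟩]
          rw [Finset.sum_congr rfl this, Finset.sum_filter]
          have h2 := card_subtype_eq_sum (fun g : G => g ∈ N)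
          rw [h2]
          apply Finset.sum_congr rfl
          intro g _
          by_cases h : g ∈ N <;> simp [h]
        rw [eR]
        obtain ⟨P'⟩ : Nonempty (Sylow p ↥N) := inferInstance
        haveI : Fintype (Sylow p ↥N) := Fintype.ofFinite _
        obtain ⟨cN', hcN'⟩ : ∃ cN' : ℕ, cN' =
            Nat.card (Subgroup.normalizer ((P' : Subgroup ↥N) : Set ↥N)) := ⟨_, rfl⟩
        have hNle : Nat.card ↥N ≤ Nat.card G := Subgroup.card_le_card_group N
        -- inner sums via the induction hypothesis in N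
        have hin : ∀ T ∈ 𝒜, ∑ g ∈ Finset.univ.filter (fun g : G => g ∈ N),
            (if SN p T g then (1 : ℤ) else 0) =
            (Nat.card {Q' : Sylow p ↥N // T.subgroupOf N ≤ (Q' : Subgroup ↥N)} : ℤ) * (cN' : ℤ) := by
          intro T hT
          obtain ⟨hTp, hlt, hTN⟩ := (hA_mem T).1 hT
          have h1 : ∑ g ∈ Finset.univ.filter (fun g : G => g ∈ N),
              (if SN p T g then (1 : ℤ) else 0) =
              (Nat.card {g : G // g ∈ N ∧ SN p T g} : ℤ) := by
            rw [card_subtype_eq_sum (fun g : G => g ∈ N ∧ SN p T g), Finset.sum_filter]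
            apply Finset.sum_congr rfl
            intro g _
            by_cases h : g ∈ N <;> simp [h]
          have h2 : Nat.card {g : G // g ∈ N ∧ SN p T g} =
              Nat.card {g' : ↥N // SN p (T.subgroupOf N) g'} := by
            refine Nat.card_congr ?_
            refine (Equiv.subtypeSubtypeEquivSubtypeInter (fun g : G => g ∈ N)
              (fun g : G => SN p T g)).symm.trans ?_
            exact Equiv.subtypeEquivRight (fun g' => (SN_subgroupOf_iff hTN g').symm)
          have h3 : Nat.card (T.subgroupOf N) = Nat.card T :=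
            Nat.card_congr (Subgroup.subgroupOfEquivOfLe hTN).toEquiv
          have h4 := hcardlt T hT
          have h5 : Nat.card T ≤ Nat.card ↥N := Subgroup.card_le_of_le hTN
          have := ih (Nat.card ↥N - Nat.card (T.subgroupOf N)) (by rw [h3]; omega) ↥N
            (T.subgroupOf N) (hTp.comap_of_injective N.subtype N.subtype_injective) rfl P'
          rw [← hcN'] at this
          rw [h1, h2, this]
          push_cast
          rfl
        have e1 : ∑ g ∈ Finset.univ.filter (fun g : G => g ∈ N),
            ∑ T ∈ 𝒜, w T * (if SN p T g then (1 : ℤ) else 0) =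
            (∑ T ∈ 𝒜, w T *
              (Nat.card {Q' : Sylow p ↥N // T.subgroupOf N ≤ (Q' : Subgroup ↥N)} : ℤ)) *
                (cN' : ℤ) := by
          rw [Finset.sum_comm, Finset.sum_mul]
          apply Finset.sum_congr rfl
          intro T hT
          rw [← Finset.mul_sum, hin T hT, mul_assoc]
        have e2 : ∑ T ∈ 𝒜, w T *
            (Nat.card {Q' : Sylow p ↥N // T.subgroupOf N ≤ (Q' : Subgroup ↥N)} : ℤ) =
            (Nat.card (Sylow p ↥N) : ℤ) := by
          have e3 : ∀ T ∈ 𝒜, w T *
              (Nat.card {Q' : Sylow p ↥N // T.subgroupOf N ≤ (Q' : Subgroup ↥N)} : ℤ) =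
              ∑ Q' : Sylow p ↥N, w T * (if T.subgroupOf N ≤ (Q' : Subgroup ↥N) then 1 else 0) := by
            intro T _
            rw [card_subtype_eq_sum (fun Q' : Sylow p ↥N => T.subgroupOf N ≤ (Q' : Subgroup ↥N)),
              Finset.mul_sum]
          rw [Finset.sum_congr rfl e3, Finset.sum_comm]
          have e4 : ∀ Q' ∈ (Finset.univ : Finset (Sylow p ↥N)),
              ∑ T ∈ 𝒜, w T * (if T.subgroupOf N ≤ (Q' : Subgroup ↥N) then (1 : ℤ) else 0) = 1 := by
            intro Q' _
            obtain ⟨R, hR⟩ : ∃ R, R = (Q' : Subgroup ↥N).map N.subtype := ⟨_, rfl⟩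
            have hRN : R ≤ N := hR ▸ Subgroup.map_subtype_le _
            have hRp : IsPGroup p R := hR ▸ Q'.isPGroup'.map _
            have hHR : H ≤ R := by
              haveI : (H.subgroupOf N).Normal :=
                (Subgroup.normal_subgroupOf_iff_le_normalizer hHN).2 (hN ▸ le_rfl)
              have hp' : IsPGroup p (H.subgroupOf N) :=
                hH.comap_of_injective N.subtype N.subtype_injective
              have := hp'.le_sylow_of_normal Q'
              intro x hx
              rw [hR]
              exact ⟨⟨x, hHN hx⟩, this (by rw [Subgroup.mem_subgroupOf]; exact hx), rfl⟩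
            have hcR : Nat.card H < Nat.card R := by
              obtain ⟨P0, hP0⟩ := hH.exists_le_sylow
              have hU := lt_normalizer_inf P0.isPGroup' hP0 (fun h => hSyl P0 h.symm)
              rw [← hN] at hU
              have hUp : IsPGroup p ((P0 : Subgroup G) ⊓ N : Subgroup G) :=
                P0.isPGroup'.to_le inf_le_left
              have hUp' : IsPGroup p (((P0 : Subgroup G) ⊓ N).subgroupOf N) :=
                hUp.comap_of_injective N.subtype N.subtype_injective
              obtain ⟨Q'', hQ''⟩ := hUp'.exists_le_sylow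
              have c1 : Nat.card (((P0 : Subgroup G) ⊓ N).subgroupOf N) =
                  Nat.card ((P0 : Subgroup G) ⊓ N : Subgroup G) :=
                Nat.card_congr (Subgroup.subgroupOfEquivOfLe inf_le_right).toEquiv
              have c2 : Nat.card (((P0 : Subgroup G) ⊓ N).subgroupOf N) ≤ Nat.card Q'' :=
                Subgroup.card_le_of_le hQ''
              have c3 : Nat.card Q'' = Nat.card Q' := by
                rw [Sylow.card_eq_multiplicity, Sylow.card_eq_multiplicity]
              have c4 : Nat.card R = Nat.card Q' := by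
                rw [hR]; exact Subgroup.card_map_of_injective N.subtype_injective
              have c5 := card_lt_of_lt hU
              omega
            have hRA : R ∈ 𝒜 := by
              rw [hA_mem]
              refine ⟨hRp, lt_of_le_of_ne hHR ?_, hRN⟩
              intro h
              rw [← h] at hcR
              exact lt_irrefl _ hcR
            have e5 : ∑ T ∈ 𝒜, w T * (if T.subgroupOf N ≤ (Q' : Subgroup ↥N) then (1 : ℤ) else 0) =
                ∑ T ∈ 𝒜.filter (· ≤ R), w T := by
              rw [Finset.sum_filter]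
              apply Finset.sum_congr rfl
              intro T hT
              have hTN := ((hA_mem T).1 hT).2.2
              have hiff : T.subgroupOf N ≤ (Q' : Subgroup ↥N) ↔ T ≤ R := by
                constructor
                · intro h x hx
                  rw [hR]
                  exact ⟨⟨x, hTN hx⟩, h (by rw [Subgroup.mem_subgroupOf]; exact hx), rfl⟩
                · intro h y hy
                  rw [Subgroup.mem_subgroupOf] at hy
                  have := h hy
                  rw [hR] at this
                  obtain ⟨z, hz, hzy⟩ := this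
                  have hzy' : z = y := Subtype.ext hzy
                  rw [← hzy']; exact hz
              by_cases h : T ≤ R
              · rw [if_pos (hiff.mpr h), if_pos h, mul_one]
              · rw [if_neg (fun h' => h (hiff.mp h')), if_neg h, mul_zero]
            rw [e5]
            exact hw R hRA
          rw [Finset.sum_congr rfl e4]
          simp [Nat.card_eq_fintype_card]
        rw [e1, e2]
        have h1 : Nat.card (Sylow p ↥N) =
            (Subgroup.normalizer ((P' : Subgroup ↥N) : Set ↥N)).index :=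
          Sylow.card_eq_index_normalizer P'
        have h2 := Subgroup.index_mul_card (Subgroup.normalizer ((P' : Subgroup ↥N) : Set ↥N))
        rw [← h1, ← hcN'] at h2
        exact_mod_cast h2
      · -- elements outside N
        apply Finset.sum_congr rfl
        intro g hg
        simp only [Finset.mem_filter, Finset.mem_univ, true_and] at hg
        have e1 : ∑ T ∈ 𝒜, w T * (if SN p T g then (1 : ℤ) else 0) =
            ∑ T ∈ 𝒜.filter (fun T => SN p T g), w T := by
          rw [Finset.sum_filter]
          apply Finset.sum_congr rfl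
          intro T _
          by_cases h : SN p T g
          · rw [if_pos h, if_pos h, mul_one]
          · rw [if_neg h, if_neg h, mul_zero]
        rw [e1]
        by_cases hS : SN p H g
        · rw [if_pos hS]
          obtain ⟨T0, hT0⟩ : ∃ T0, T0 = sInf {T : Subgroup G | IsPGroup p T ∧ H ≤ T ∧
              g ∈ Subgroup.normalizer (T : Set G)} := ⟨_, rfl⟩
          obtain ⟨Tw, hTw⟩ := hS
          have hT0p : IsPGroup p T0 := hTw.1.to_le (hT0 ▸ sInf_le hTw)
          have hHT0 : H ≤ T0 := hT0 ▸ le_sInf (fun T hT => hT.2.1)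
          have hgT0 : g ∈ Subgroup.normalizer (T0 : Set G) := by
            rw [Subgroup.mem_normalizer_iff]
            intro x
            rw [hT0, Subgroup.mem_sInf, Subgroup.mem_sInf]
            constructor
            · intro h T hT
              exact (Subgroup.mem_normalizer_iff.mp hT.2.2 x).mp (h T hT)
            · intro h T hT
              exact (Subgroup.mem_normalizer_iff.mp hT.2.2 x).mpr (h T hT)
          have hT0min : ∀ T : Subgroup G, IsPGroup p T → H ≤ T → g ∈ Subgroup.normalizer (T : Set G) →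
              T0 ≤ T := fun T h1 h2 h3 => hT0 ▸ sInf_le ⟨h1, h2, h3⟩
          have hHne : H ≠ T0 := by
            intro h
            rw [← h, ← hN] at hgT0
            exact hg hgT0
          have hr : T0 ⊓ N ∈ 𝒜 := F1 T0 hT0p hHT0 hHne
          refine closure_sum 𝒜 (𝒜.filter (fun T => SN p T g)) w hw (Finset.filter_subset _ _)
            ?_ (T0 ⊓ N) (Finset.mem_filter.2 ⟨hr, ⟨T0, hT0p, inf_le_left, hgT0⟩⟩) ?_
          · intro T hT T' hT' hle
            rw [Finset.mem_filter] at hT ⊢
            exact ⟨hT', SN_mono hle hT.2⟩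
          · intro T hT
            rw [Finset.mem_filter] at hT ⊢
            obtain ⟨hTA, T1, hT1p, hTT1, hgT1⟩ := hT
            obtain ⟨_, hlt, hTN⟩ := (hA_mem T).1 hTA
            have h01 : T0 ≤ T1 := hT0min T1 hT1p (hlt.le.trans hTT1) hgT1
            have hle : T ⊔ T0 ⊓ N ≤ T1 := sup_le hTT1 (inf_le_left.trans h01)
            exact ⟨(hA_mem _).2 ⟨hT1p.to_le hle, lt_of_lt_of_le hlt le_sup_left,
              sup_le hTN inf_le_right⟩, T1, hT1p, hle, hgT1⟩
        · rw [if_neg hS]
          apply Finset.sum_eq_zero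
          intro T hT
          rw [Finset.mem_filter] at hT
          exact absurd (SN_mono ((hA_mem T).1 hT.1).2.1.le hT.2) hS
    exact_mod_cast stepB.symm.trans stepA

theorem card_SN (H : Subgroup G) (hH : IsPGroup p H) (P : Sylow p G) :
    Nat.card {g : G // SN p H g} =
      Nat.card {Q : Sylow p G // H ≤ (Q : Subgroup G)} *
        Nat.card (Subgroup.normalizer ((P : Subgroup G) : Set G)) :=
  card_SN_aux _ G H hH rfl P

theorem sylow_count_eq (H : Subgroup G) (P : Sylow p G) :
    Nat.card {Q : Sylow p G // H ≤ (Q : Subgroup G)} *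
        Nat.card (Subgroup.normalizer ((P : Subgroup G) : Set G)) =
      Nat.card {K : Subgroup G // K ≤ (P : Subgroup G) ∧
          ∃ g : G, K = H.map (MulAut.conj g).toMonoidHom} *
        Nat.card (Subgroup.normalizer (H : Set G)) := by
  letI : MulAction G (Subgroup G) :=
    MulAction.compHom (Subgroup G) (MulAut.conj : G →* MulAut G)
  have hsm : ∀ (g : G) (K : Subgroup G), g • K = MulAut.conj g • K := fun _ _ => rfl
  have hb := card_smul_mem (Γ := G) (X := Sylow p G) P {Q | H ≤ (Q : Subgroup G)}
  have ha := card_smul_mem (Γ := G) (X := Subgroup G) H {K | K ≤ (P : Subgroup G)}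
  have e1 : Nat.card {y : Sylow p G // y ∈ {Q : Sylow p G | H ≤ (Q : Subgroup G)} ∧
      y ∈ MulAction.orbit G P} = Nat.card {Q : Sylow p G // H ≤ (Q : Subgroup G)} :=
    Nat.card_congr (Equiv.subtypeEquivRight (fun y => by
      rw [MulAction.orbit_eq_univ]; simp))
  have e2 : Nat.card (MulAction.stabilizer G P) =
      Nat.card (Subgroup.normalizer ((P : Subgroup G) : Set G)) := by
    rw [Sylow.stabilizer_eq_normalizer]
    rfl
  have e3 : Nat.card {y : Subgroup G // y ∈ {K : Subgroup G | K ≤ (P : Subgroup G)} ∧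
      y ∈ MulAction.orbit G H} = Nat.card {K : Subgroup G // K ≤ (P : Subgroup G) ∧
        ∃ g : G, K = H.map (MulAut.conj g).toMonoidHom} :=
    Nat.card_congr (Equiv.subtypeEquivRight (fun y => by
      simp only [Set.mem_setOf_eq]
      refine and_congr Iff.rfl ?_
      constructor
      · rintro ⟨g, hg⟩
        exact ⟨g, hg.symm⟩
      · rintro ⟨g, hg⟩
        exact ⟨g, hg.symm⟩))
  have e4 : MulAction.stabilizer G H = Subgroup.normalizer (H : Set G) := by
    ext g
    rw [MulAction.mem_stabilizer_iff, hsm, Subgroup.mem_normalizer_iff]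
    constructor
    · intro h x
      constructor
      · intro hx
        have := Cfsg.Agent.Lib.helper20.conj_mem_conj_smul (g := g) hx
        rwa [h] at this
      · intro hx
        rw [← h, Cfsg.Agent.Lib.helper20.mem_conj_smul_iff] at hx
        simpa [mul_assoc] using hx
    · intro h
      ext y
      rw [Cfsg.Agent.Lib.helper20.mem_conj_smul_iff, h (g⁻¹ * y * g)]
      simp [mul_assoc]
  have e5 : Nat.card {g : G // g • P ∈ {Q : Sylow p G | H ≤ (Q : Subgroup G)}} =
      Nat.card {g : G // g • H ∈ {K : Subgroup G | K ≤ (P : Subgroup G)}} := by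
    refine Nat.card_congr ((Equiv.inv G).subtypeEquiv ?_)
    intro g
    simp only [Set.mem_setOf_eq, Equiv.inv_apply]
    rw [hsm, Sylow.coe_subgroup_smul]
    constructor
    · intro h
      rw [Cfsg.Agent.Lib.helper20.conj_smul_le_iff]
      intro s hs
      have := h hs
      rw [Cfsg.Agent.Lib.helper20.mem_conj_smul_iff] at this
      simpa using this
    · intro h x hx
      rw [Cfsg.Agent.Lib.helper20.mem_conj_smul_iff]
      have := (Cfsg.Agent.Lib.helper20.conj_smul_le_iff.mp h) x hx
      simpa using this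
  rw [← e1, ← e2, ← hb, e5, ha, e3, e4]

end grp

end Cfsg.Agent.Lib.helper29.Subnz
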