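import Mathlib
import Cfsg.Agent.Lib.helper29.Subnz
import Cfsg.Agent.S4355

set_option autoImplicit false

namespace Cfsg.Agent.Lib.helper29.Subnz

open scoped Pointwise

universe u

section psolv

variable {G : Type u} [Group G] [Finite G] {p : ℕ} [Fact p.Prime]

theorem card_mul_relIndex_of_le {A B : Subgroup G} (h : A ≤ B) :
    Nat.card A * A.relIndex B = Nat.card B := by
  have h1 := Subgroup.card_mul_index (A.subgroupOf B)
  have h2 : Nat.card (A.subgroupOf B) = Nat.card A :=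
    Nat.card_congr (Subgroup.subgroupOfEquivOfLe h).toEquiv
  rw [h2] at h1
  exact h1

theorem card_sup_mul_card_inf (A N : Subgroup G) [N.Normal] :
    Nat.card (A ⊔ N : Subgroup G) * Nat.card (N ⊓ A : Subgroup G) = Nat.card N * Nat.card A := by
  have h1 := card_mul_relIndex_of_le (le_sup_right : N ≤ A ⊔ N)
  rw [Subgroup.relIndex_sup_right] at h1
  have h2 := card_mul_relIndex_of_le (inf_le_right : N ⊓ A ≤ A)
  rw [Subgroup.inf_relIndex_right] at h2
  rw [← h1, ← h2]; ring

theorem sup_inf_le_of_coprime (P : Sylow p G) {M M' : Subgroup G} [M.Normal] (hle : M ≤ M')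
    (hcop : (M.relIndex M').Coprime p) : ((P : Subgroup G) ⊔ M) ⊓ M' ≤ M := by
  obtain ⟨W, hW⟩ : ∃ W, W = ((P : Subgroup G) ⊔ M) ⊓ M' := ⟨_, rfl⟩
  rw [← hW]
  have hMW : M ≤ W := hW ▸ le_inf le_sup_right hle
  have h1 : M.relIndex W ∣ M.relIndex M' :=
    ⟨_, (Subgroup.relIndex_mul_relIndex M W M' hMW (hW ▸ inf_le_right)).symm⟩
  have h2 : M.relIndex W ∣ M.relIndex ((P : Subgroup G) ⊔ M) :=
    ⟨_, (Subgroup.relIndex_mul_relIndex M W _ hMW (hW ▸ inf_le_left)).symm⟩
  rw [Subgroup.relIndex_sup_right] at h2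
  have h3 : M.relIndex (P : Subgroup G) ∣ Nat.card (P : Subgroup G) := Subgroup.relIndex_dvd_card _ _
  obtain ⟨k, hk⟩ := (IsPGroup.iff_card.mp P.isPGroup')
  have h4 : M.relIndex W ∣ p ^ k := hk ▸ h2.trans h3
  have h5 : (M.relIndex W).Coprime (p ^ k) :=
    Nat.Coprime.pow_right k (Nat.Coprime.coprime_dvd_left h1 hcop)
  have h6 : M.relIndex W = 1 := Nat.Coprime.eq_one_of_dvd h5 h4
  exact Subgroup.relIndex_eq_one.mp h6

theorem conj_mem_sup_iff (P : Sylow p G) {M M' : Subgroup G} [hM : M.Normal] [hM' : M'.Normal]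
    (hle : M ≤ M') (hcop : (M.relIndex M').Coprime p) {k m : G} (hk : k ∈ (P : Subgroup G))
    (hm : m ∈ M') :
    m⁻¹ * k * m ∈ (P : Subgroup G) ⊔ M ↔ k * m * k⁻¹ * m⁻¹ ∈ M := by
  constructor
  · intro h
    have h1 : m⁻¹ * k * m * k⁻¹ ∈ ((P : Subgroup G) ⊔ M) ⊓ M' := by
      refine Subgroup.mem_inf.2 ⟨mul_mem h (inv_mem (Subgroup.mem_sup_left hk)), ?_⟩
      have : m⁻¹ * k * m * k⁻¹ = m⁻¹ * (k * m * k⁻¹) := by group
      rw [this]
      exact mul_mem (inv_mem hm) (hM'.conj_mem m hm k)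
    have h2 := sup_inf_le_of_coprime P hle hcop h1
    have : k * m * k⁻¹ * m⁻¹ = m * (m⁻¹ * k * m * k⁻¹) * m⁻¹ := by group
    rw [this]
    exact hM.conj_mem _ h2 m
  · intro h
    have : m⁻¹ * k * m = m⁻¹ * (k * m * k⁻¹ * m⁻¹) * m⁻¹⁻¹ * k := by group
    rw [this]
    exact mul_mem (Subgroup.mem_sup_right (hM.conj_mem _ h m⁻¹)) (Subgroup.mem_sup_left hk)

/-- Elements conjugating `H` into `P M`. -/
def ZM (H P M : Subgroup G) : Set G := {g | ∀ h ∈ H, g⁻¹ * h * g ∈ P ⊔ M}

theorem step_coprime (H : Subgroup G) (hH : IsPGroup p H) (P : Sylow p G) {M M' : Subgroup G}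
    [hM : M.Normal] [hM' : M'.Normal] (hle : M ≤ M') (hcop : (M.relIndex M').Coprime p) :
    Nat.card {g : G // g ∈ ZM H (P : Subgroup G) M} * Nat.card M' =
      Nat.card {g : G // g ∈ ZM H (P : Subgroup G) M'} *
        Nat.card {u : G // u ∈ M' ∧ ∀ h ∈ H, h * u * h⁻¹ * u⁻¹ ∈ M} := by
  classical
  have hsub : ∀ g, g ∈ ZM H (P : Subgroup G) M → g ∈ ZM H (P : Subgroup G) M' :=
    fun g hg h hh => (sup_le_sup_left hle _) (hg h hh)
  have hmulM' : ∀ g m, g ∈ ZM H (P : Subgroup G) M' → m ∈ M' →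
      g * m ∈ ZM H (P : Subgroup G) M' := by
    intro g m hg hm h hh
    have h1 := hg h hh
    have h2 : m ∈ (P : Subgroup G) ⊔ M' := Subgroup.mem_sup_right hm
    have : (g * m)⁻¹ * h * (g * m) = m⁻¹ * (g⁻¹ * h * g) * m := by group
    rw [this]
    exact mul_mem (mul_mem (inv_mem h2) h1) h2
  let ea : {q : G × G // q.1 ∈ ZM H (P : Subgroup G) M' ∧ q.2 ∈ M' ∧
      q.1 * q.2 ∈ ZM H (P : Subgroup G) M} ≃ {z : G // z ∈ ZM H (P : Subgroup G) M} × M' :=
    { toFun := fun q => (⟨q.1.1 * q.1.2, q.2.2.2⟩, ⟨q.1.2, q.2.2.1⟩)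
      invFun := fun zm => ⟨(zm.1.1 * (zm.2 : G)⁻¹, (zm.2 : G)),
        hmulM' _ _ (hsub _ zm.1.2) (inv_mem zm.2.2), zm.2.2, by simpa using zm.1.2⟩
      left_inv := by rintro ⟨⟨g, m⟩, h⟩; simp
      right_inv := by rintro ⟨⟨z, hz⟩, ⟨m, hm⟩⟩; simp }
  let eb : {q : G × G // q.1 ∈ ZM H (P : Subgroup G) M' ∧ q.2 ∈ M' ∧
      q.1 * q.2 ∈ ZM H (P : Subgroup G) M} ≃
      Σ g : {g : G // g ∈ ZM H (P : Subgroup G) M'},
        {m : G // m ∈ M' ∧ g.1 * m ∈ ZM H (P : Subgroup G) M} :=
    { toFun := fun q => ⟨⟨q.1.1, q.2.1⟩, ⟨q.1.2, q.2.2⟩⟩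
      invFun := fun s => ⟨(s.1.1, s.2.1), s.1.2, s.2.2⟩
      left_inv := by rintro ⟨⟨g, m⟩, h⟩; rfl
      right_inv := by rintro ⟨⟨g, hg⟩, ⟨m, hm⟩⟩; rfl }
  have key : ∀ g : {g : G // g ∈ ZM H (P : Subgroup G) M'},
      Nat.card {m : G // m ∈ M' ∧ g.1 * m ∈ ZM H (P : Subgroup G) M} =
        Nat.card {u : G // u ∈ M' ∧ ∀ h ∈ H, h * u * h⁻¹ * u⁻¹ ∈ M} := by
    rintro ⟨g, hg⟩
    obtain ⟨m₁, hm₁, hm₁P⟩ : ∃ m₁ ∈ M', ∀ h ∈ H,
        m₁ * (g⁻¹ * h * g) * m₁⁻¹ ∈ (P : Subgroup G) := by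
      have hK : H.map (MulAut.conj g⁻¹).toMonoidHom ≤ (P : Subgroup G) ⊔ M' := by
        rintro _ ⟨h, hh, rfl⟩
        have := hg h hh
        simpa using this
      obtain ⟨c, hc, hcP⟩ := Cfsg.Agent.S4355.sylRel p ((P : Subgroup G) ⊔ M') (P : Subgroup G)
        (H.map (MulAut.conj g⁻¹).toMonoidHom) le_sup_left P.isPGroup'
        (fun B' hB' hle' _ => P.is_maximal' hB' hle') hK (hH.map _)
      have hc' : c ∈ ((P : Subgroup G) : Set G) * (M' : Set G) := by
        rw [← Subgroup.mul_normal]; exact hc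
      obtain ⟨y, hy, m₁, hm₁, rfl⟩ := Set.mem_mul.mp hc'
      refine ⟨m₁, hm₁, ?_⟩
      intro h hh
      have := hcP (g⁻¹ * h * g) ⟨h, hh, by simp⟩
      have e : m₁ * (g⁻¹ * h * g) * m₁⁻¹ =
          y⁻¹ * (y * m₁ * (g⁻¹ * h * g) * (y * m₁)⁻¹) * y := by group
      rw [e]
      exact mul_mem (mul_mem (inv_mem hy) this) hy
    have hiff : ∀ m ∈ M', (g * m ∈ ZM H (P : Subgroup G) M ↔
        ∀ h ∈ H, h * (g * m * m₁ * g⁻¹) * h⁻¹ * (g * m * m₁ * g⁻¹)⁻¹ ∈ M) := by
      intro m hm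
      have hm' : m₁ * m ∈ M' := mul_mem hm₁ hm
      have e1 : ∀ h : G, (g * m)⁻¹ * h * (g * m) =
          (m₁ * m)⁻¹ * (m₁ * (g⁻¹ * h * g) * m₁⁻¹) * (m₁ * m) := by intro h; group
      have e2 : ∀ h : G, h * (g * m * m₁ * g⁻¹) * h⁻¹ * (g * m * m₁ * g⁻¹)⁻¹ =
          (g * m₁⁻¹) * ((m₁ * (g⁻¹ * h * g) * m₁⁻¹) * (m₁ * m) *
            (m₁ * (g⁻¹ * h * g) * m₁⁻¹)⁻¹ * (m₁ * m)⁻¹) * (g * m₁⁻¹)⁻¹ := by intro h; group
      constructor
      · intro hz h hh
        have h1 := hz h hh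
        rw [e1] at h1
        have h2 := (conj_mem_sup_iff P hle hcop (hm₁P h hh) hm').mp h1
        rw [e2]
        exact hM.conj_mem _ h2 _
      · intro hu h hh
        have h1 := hu h hh
        show (g * m)⁻¹ * h * (g * m) ∈ (P : Subgroup G) ⊔ M
        rw [e1]
        apply (conj_mem_sup_iff P hle hcop (hm₁P h hh) hm').mpr
        rw [e2] at h1
        have h3 := hM.conj_mem _ h1 (g * m₁⁻¹)⁻¹
        have e3 : (g * m₁⁻¹)⁻¹ * ((g * m₁⁻¹) * ((m₁ * (g⁻¹ * h * g) * m₁⁻¹) * (m₁ * m) *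
            (m₁ * (g⁻¹ * h * g) * m₁⁻¹)⁻¹ * (m₁ * m)⁻¹) * (g * m₁⁻¹)⁻¹) * (g * m₁⁻¹)⁻¹⁻¹ =
            (m₁ * (g⁻¹ * h * g) * m₁⁻¹) * (m₁ * m) *
            (m₁ * (g⁻¹ * h * g) * m₁⁻¹)⁻¹ * (m₁ * m)⁻¹ := by group
        rw [e3] at h3
        exact h3
    have hmem1 : ∀ m ∈ M', g * m * m₁ * g⁻¹ ∈ M' := by
      intro m hm
      have : g * m * m₁ * g⁻¹ = g * (m * m₁) * g⁻¹ := by group
      rw [this]
      exact hM'.conj_mem _ (mul_mem hm hm₁) g
    have hmem2 : ∀ u ∈ M', g⁻¹ * u * g * m₁⁻¹ ∈ M' := by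
      intro u hu
      have h1 := hM'.conj_mem u hu g⁻¹
      rw [inv_inv] at h1
      exact mul_mem h1 (inv_mem hm₁)
    apply Nat.card_congr
    exact
      { toFun := fun m => ⟨g * m.1 * m₁ * g⁻¹, hmem1 m.1 m.2.1, (hiff m.1 m.2.1).mp m.2.2⟩
        invFun := fun u => ⟨g⁻¹ * u.1 * g * m₁⁻¹, hmem2 u.1 u.2.1,
          (hiff _ (hmem2 u.1 u.2.1)).mpr (by
            have e : g * (g⁻¹ * u.1 * g * m₁⁻¹) * m₁ * g⁻¹ = u.1 := by group
            rw [e]; exact u.2.2)⟩
        left_inv := fun m => by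
          apply Subtype.ext
          show g⁻¹ * (g * m.1 * m₁ * g⁻¹) * g * m₁⁻¹ = m.1
          group
        right_inv := fun u => by
          apply Subtype.ext
          show g * (g⁻¹ * u.1 * g * m₁⁻¹) * m₁ * g⁻¹ = u.1
          group }
  haveI : Fintype {g : G // g ∈ ZM H (P : Subgroup G) M'} := Fintype.ofFinite _
  have h1 := Nat.card_congr ea
  have h2 := Nat.card_congr eb
  rw [Nat.card_prod] at h1
  rw [Nat.card_sigma, Finset.sum_congr rfl (fun g _ => key g)] at h2
  rw [← h1, h2]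
  simp [Nat.card_eq_fintype_card]

theorem step_ppow (P : Sylow p G) {M M' : Subgroup G} [hM' : M'.Normal]
    {m : ℕ} (hpow : M.relIndex M' = p ^ m) :
    (P : Subgroup G) ⊔ M' = (P : Subgroup G) ⊔ M ∨ ¬ M ≤ M' := by
  by_cases hle : M ≤ M'
  swap
  · right; exact hle
  left
  obtain ⟨Y, hY⟩ : ∃ Y, Y = (P : Subgroup G) ⊔ M := ⟨_, rfl⟩
  rw [← hY]
  have hMY : M ≤ Y := hY ▸ le_sup_right
  have hPY : (P : Subgroup G) ≤ Y := hY ▸ le_sup_left
  have h1 : Y.relIndex M' ∣ p ^ m := hpow ▸ Subgroup.relIndex_dvd_of_le_left M' hMY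
  have h2 := card_sup_mul_card_inf Y M'
  have h3 := card_mul_relIndex_of_le (inf_le_left : M' ⊓ Y ≤ M')
  rw [Subgroup.inf_relIndex_left] at h3
  have h4 := card_mul_relIndex_of_le (le_sup_left : Y ≤ Y ⊔ M')
  have h5 : Y.relIndex M' = Y.relIndex (Y ⊔ M') := by
    have hpos1 : 0 < Nat.card (M' ⊓ Y : Subgroup G) := Nat.card_pos
    have hpos2 : 0 < Nat.card Y := Nat.card_pos
    have : Nat.card Y * Nat.card (M' ⊓ Y : Subgroup G) * Y.relIndex M' =
        Nat.card Y * Nat.card (M' ⊓ Y : Subgroup G) * Y.relIndex (Y ⊔ M') := by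
      calc Nat.card Y * Nat.card (M' ⊓ Y : Subgroup G) * Y.relIndex M'
          = Nat.card Y * (Nat.card (M' ⊓ Y : Subgroup G) * Y.relIndex M') := by ring
        _ = Nat.card Y * Nat.card M' := by rw [h3]
        _ = Nat.card (Y ⊔ M' : Subgroup G) * Nat.card (M' ⊓ Y : Subgroup G) := by rw [h2]; ring
        _ = _ := by rw [← h4]; ring
    exact Nat.eq_of_mul_eq_mul_left (Nat.mul_pos hpos2 hpos1) this
  have h6 : Y.relIndex M' ∣ (P : Subgroup G).index := by
    rw [h5]
    exact (Subgroup.relIndex_dvd_index_of_le le_sup_left).trans (Subgroup.index_dvd_of_le hPY)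
  have h7 : ¬ p ∣ (P : Subgroup G).index := P.not_dvd_index
  have h8 : Y.relIndex M' = 1 := by
    obtain ⟨j, hj, hj'⟩ := (Nat.dvd_prime_pow Fact.out).mp h1
    rcases Nat.eq_zero_or_pos j with rfl | hjpos
    · simpa using hj'
    · exfalso
      apply h7
      refine dvd_trans ?_ h6
      rw [hj']
      exact dvd_pow_self p hjpos.ne'
  have h9 : M' ≤ Y := Subgroup.relIndex_eq_one.mp h8
  exact le_antisymm (sup_le hPY h9) (hY.le.trans (sup_le_sup_left hle _))

theorem card_ZM_bot (H : Subgroup G) (P : Sylow p G) :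
    Nat.card {g : G // g ∈ ZM H (P : Subgroup G) ⊥} =
      Nat.card {Q : Sylow p G // H ≤ (Q : Subgroup G)} *
        Nat.card (Subgroup.normalizer ((P : Subgroup G) : Set G)) := by
  have hb := card_smul_mem (Γ := G) (X := Sylow p G) P {Q | H ≤ (Q : Subgroup G)}
  have e1 : Nat.card {y : Sylow p G // y ∈ {Q : Sylow p G | H ≤ (Q : Subgroup G)} ∧
      y ∈ MulAction.orbit G P} = Nat.card {Q : Sylow p G // H ≤ (Q : Subgroup G)} :=
    Nat.card_congr (Equiv.subtypeEquivRight (fun y => by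
      rw [MulAction.orbit_eq_univ]; simp))
  have e2 : Nat.card (MulAction.stabilizer G P) =
      Nat.card (Subgroup.normalizer ((P : Subgroup G) : Set G)) := by
    rw [Sylow.stabilizer_eq_normalizer]
    rfl
  rw [← e1, ← e2, ← hb]
  refine Nat.card_congr (Equiv.subtypeEquivRight (fun g => ?_))
  simp only [ZM, Set.mem_setOf_eq, sup_bot_eq]
  rw [Sylow.coe_subgroup_smul]
  constructor
  · intro h x hx
    rw [Cfsg.Agent.Lib.helper20.mem_conj_smul_iff]
    exact h x hx
  · intro h x hx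
    have := h hx
    rwa [Cfsg.Agent.Lib.helper20.mem_conj_smul_iff] at this

theorem card_SN_psolv (H : Subgroup G) (hH : IsPGroup p H) (P : Sylow p G)
    (n : ℕ) (M : Fin (n + 1) → Subgroup G) (h0 : M 0 = ⊥) (hn : M (Fin.last n) = ⊤)
    (hmono : Monotone M) (hnormal : ∀ i, (M i).Normal)
    (hfac : ∀ i : Fin n, (∃ m : ℕ, (M i.castSucc).relIndex (M i.succ) = p ^ m) ∨
      ((M i.castSucc).relIndex (M i.succ)).Coprime p) :
    Nat.card {g : G // SN p H g} =
      Nat.card (P : Subgroup G) *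
        ∏ i : Fin n, (if ((M i.castSucc).relIndex (M i.succ)).Coprime p then
          Nat.card {u : G // u ∈ M i.succ ∧ ∀ h ∈ H, h * u * h⁻¹ * u⁻¹ ∈ M i.castSucc} /
            Nat.card (M i.castSucc)
          else 1) := by
  classical
  rw [card_SN H hH P, ← card_ZM_bot H P]
  obtain ⟨F, hF⟩ : ∃ F : Fin n → ℕ, F = fun i =>
      (if ((M i.castSucc).relIndex (M i.succ)).Coprime p then
          Nat.card {u : G // u ∈ M i.succ ∧ ∀ h ∈ H, h * u * h⁻¹ * u⁻¹ ∈ M i.castSucc} /
            Nat.card (M i.castSucc)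
          else 1) := ⟨_, rfl⟩
  have main : ∀ i : Fin (n + 1), Nat.card {g : G // g ∈ ZM H (P : Subgroup G) (M i)} =
      Nat.card ((P : Subgroup G) ⊔ M i : Subgroup G) *
        ∏ j : Fin n, (if i ≤ j.castSucc then F j else 1) := by
    intro i
    induction i using Fin.reverseInduction with
    | last =>
      rw [hn]
      have e1 : Nat.card {g : G // g ∈ ZM H (P : Subgroup G) ⊤} = Nat.card G :=
        Nat.card_congr (Equiv.subtypeUnivEquiv (fun g => by
          intro h _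
          rw [sup_top_eq]
          exact Subgroup.mem_top _))
      have e2 : ∏ j : Fin n, (if Fin.last n ≤ j.castSucc then F j else 1) = 1 := by
        apply Finset.prod_eq_one
        intro j _
        rw [if_neg (not_le.mpr (Fin.castSucc_lt_last j))]
      rw [e1, e2, sup_top_eq, Subgroup.card_top, mul_one]
    | cast i ih =>
      have hprod : ∏ j : Fin n, (if i.castSucc ≤ j.castSucc then F j else 1) =
          F i * ∏ j : Fin n, (if i.succ ≤ j.castSucc then F j else 1) := by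
        have hj : ∀ j : Fin n, (if i.castSucc ≤ j.castSucc then F j else 1) =
            (if j = i then F j else 1) * (if i.succ ≤ j.castSucc then F j else 1) := by
          intro j
          have a1 : (i.castSucc ≤ j.castSucc) ↔ (i : ℕ) ≤ (j : ℕ) := Iff.rfl
          have a2 : (i.succ ≤ j.castSucc) ↔ (i : ℕ) + 1 ≤ (j : ℕ) := Iff.rfl
          have a3 : (j = i) ↔ (j : ℕ) = (i : ℕ) := Fin.ext_iff
          simp only [a1, a2, a3]
          split_ifs <;> first | omega | simp
        rw [Finset.prod_congr rfl (fun j _ => hj j), Finset.prod_mul_distrib,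
          Finset.prod_ite_eq' Finset.univ i F]
        simp
      have hle : M i.castSucc ≤ M i.succ := hmono (Fin.castSucc_le_succ i)
      haveI := hnormal i.castSucc
      haveI := hnormal i.succ
      by_cases hc : ((M i.castSucc).relIndex (M i.succ)).Coprime p
      · have s1 := step_coprime H hH P hle hc
        have hW := sup_inf_le_of_coprime P hle hc
        have hinf : M i.succ ⊓ (P : Subgroup G) = M i.castSucc ⊓ (P : Subgroup G) := by
          apply le_antisymm
          · exact le_inf ((le_inf (inf_le_right.trans le_sup_left) inf_le_left).trans hW)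
              inf_le_right
          · exact inf_le_inf_right _ hle
        have c1 := card_sup_mul_card_inf (P : Subgroup G) (M i.succ)
        have c2 := card_sup_mul_card_inf (P : Subgroup G) (M i.castSucc)
        rw [hinf] at c1
        have hcpos : 0 < Nat.card (M i.castSucc ⊓ (P : Subgroup G) : Subgroup G) := Nat.card_pos
        have s2 : Nat.card ((P : Subgroup G) ⊔ M i.succ : Subgroup G) * Nat.card (M i.castSucc) =
            Nat.card ((P : Subgroup G) ⊔ M i.castSucc : Subgroup G) * Nat.card (M i.succ) := by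
          apply Nat.eq_of_mul_eq_mul_right hcpos
          calc Nat.card ((P : Subgroup G) ⊔ M i.succ : Subgroup G) * Nat.card (M i.castSucc) *
                Nat.card (M i.castSucc ⊓ (P : Subgroup G) : Subgroup G)
              = (Nat.card ((P : Subgroup G) ⊔ M i.succ : Subgroup G) *
                Nat.card (M i.castSucc ⊓ (P : Subgroup G) : Subgroup G)) *
                  Nat.card (M i.castSucc) := by ring
            _ = Nat.card (M i.succ) * Nat.card (P : Subgroup G) * Nat.card (M i.castSucc) := by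
                rw [c1]
            _ = (Nat.card (M i.castSucc) * Nat.card (P : Subgroup G)) * Nat.card (M i.succ) := by
                ring
            _ = _ := by rw [← c2]; ring
        -- the centralizer-type set is a subgroup containing `M i.castSucc`
        let D : Subgroup G :=
          { carrier := {u : G | u ∈ M i.succ ∧ ∀ h ∈ H, h * u * h⁻¹ * u⁻¹ ∈ M i.castSucc}
            mul_mem' := by
              rintro u v ⟨hu, hu'⟩ ⟨hv, hv'⟩
              refine ⟨mul_mem hu hv, ?_⟩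
              intro h hh
              have e : h * (u * v) * h⁻¹ * (u * v)⁻¹ =
                  (h * u * h⁻¹ * u⁻¹) * (u * (h * v * h⁻¹ * v⁻¹) * u⁻¹) := by group
              rw [e]
              exact mul_mem (hu' h hh) ((hnormal i.castSucc).conj_mem _ (hv' h hh) u)
            one_mem' := by
              refine ⟨one_mem _, ?_⟩
              intro h _
              simp
            inv_mem' := by
              rintro u ⟨hu, hu'⟩
              refine ⟨inv_mem hu, ?_⟩
              intro h hh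
              have e : h * u⁻¹ * h⁻¹ * u⁻¹⁻¹ = u⁻¹ * (h * u * h⁻¹ * u⁻¹)⁻¹ * u⁻¹⁻¹ := by group
              rw [e]
              exact (hnormal i.castSucc).conj_mem _ (inv_mem (hu' h hh)) u⁻¹ }
        have hMD : M i.castSucc ≤ D := by
          intro x hx
          refine ⟨hle hx, ?_⟩
          intro h _
          exact mul_mem ((hnormal i.castSucc).conj_mem x hx h) (inv_mem hx)
        have s3 : Nat.card (M i.castSucc) ∣
            Nat.card {u : G // u ∈ M i.succ ∧ ∀ h ∈ H, h * u * h⁻¹ * u⁻¹ ∈ M i.castSucc} :=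
          Subgroup.card_dvd_of_le hMD
        obtain ⟨d, hd⟩ := s3
        have hFi : F i = d := by
          rw [hF]
          simp only [if_pos hc]
          rw [hd, Nat.mul_div_cancel_left _ Nat.card_pos]
        rw [hprod, hFi]
        have hpos : 0 < Nat.card (M i.succ) := Nat.card_pos
        apply Nat.eq_of_mul_eq_mul_right hpos
        rw [s1, ih, hd]
        calc Nat.card ((P : Subgroup G) ⊔ M i.succ : Subgroup G) *
              (∏ j : Fin n, if i.succ ≤ j.castSucc then F j else 1) *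
              (Nat.card (M i.castSucc) * d)
            = (Nat.card ((P : Subgroup G) ⊔ M i.succ : Subgroup G) * Nat.card (M i.castSucc)) *
              ((∏ j : Fin n, if i.succ ≤ j.castSucc then F j else 1) * d) := by ring
          _ = _ := by rw [s2]; ring
      · obtain ⟨m, hm⟩ := (hfac i).resolve_right hc
        have hFi : F i = 1 := by
          rw [hF]
          simp only [if_neg hc]
        have e := (step_ppow P hm).resolve_right (not_not.mpr hle)
        rw [hprod, hFi, one_mul]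
        have eZ : ZM H (P : Subgroup G) (M i.castSucc) = ZM H (P : Subgroup G) (M i.succ) := by
          unfold ZM; rw [e]
        rw [eZ, ih, e]
  have h1 := main 0
  rw [h0] at h1
  rw [h1, sup_bot_eq]
  congr 1
  rw [hF]
  apply Finset.prod_congr rfl
  intro j _
  rw [if_pos (Fin.zero_le _)]

end psolv

end Cfsg.Agent.Lib.helper29.Subnz
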