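import Mathlib
import Cfsg.Agent.Lib.helper29.SubnzP

/-!
Cossey–Hawkes–Mann: the multiset of class sizes detects nilpotency.
-/

namespace Cfsg.Agent.Lib.helper29.CHM

open Subgroup Cfsg.Agent.Lib.helper29.Subnz

/-- class size of an element -/
noncomputable def cs {G : Type*} [Group G] (x : G) : ℕ := Nat.card (ConjClasses.mk x).carrier

/-- the set of elements centralizing some Sylow `p`-subgroup -/
def SS (p : ℕ) (G : Type*) [Group G] : Set G :=
  {x | ∃ P : Sylow p G, x ∈ centralizer ((P : Subgroup G) : Set G)}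

theorem dvd_card_of_conj_no_fixed {Γ : Type*} [Group Γ] {p : ℕ} [Fact p.Prime]
    (R : Subgroup Γ) (hR : IsPGroup p R) (T : Set Γ) [Finite T]
    (hinv : ∀ r ∈ R, ∀ t ∈ T, r * t * r⁻¹ ∈ T)
    (hfix : ∀ t ∈ T, ∃ r ∈ R, r * t * r⁻¹ ≠ t) : p ∣ Nat.card T := by
  letI : MulAction R T :=
    { smul := fun r t => ⟨(r : Γ) * t * (r : Γ)⁻¹, hinv r r.2 t t.2⟩
      one_smul := fun t => Subtype.ext (by
        show ((1 : R) : Γ) * t.1 * ((1 : R) : Γ)⁻¹ = t.1
        simp)
      mul_smul := fun r s t => Subtype.ext (by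
        show ((r * s : R) : Γ) * t.1 * ((r * s : R) : Γ)⁻¹ =
          (r : Γ) * ((s : Γ) * t.1 * (s : Γ)⁻¹) * (r : Γ)⁻¹
        simp [mul_assoc]) }
  have h := hR.card_modEq_card_fixedPoints T
  have hempty : IsEmpty (MulAction.fixedPoints R T) := by
    constructor
    rintro ⟨t, ht⟩
    obtain ⟨r, hr, hne⟩ := hfix t t.2
    apply hne
    have := ht ⟨r, hr⟩
    exact congrArg Subtype.val this
  have h0 : Nat.card (MulAction.fixedPoints R T) = 0 := Nat.card_of_isEmpty
  rw [h0] at h
  exact Nat.modEq_zero_iff_dvd.mp h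

variable {G : Type*} [Group G] [Finite G]

theorem card_cent_mul_cs (x : G) :
    Nat.card (centralizer ({x} : Set G)) * cs x = Nat.card G := by
  have h1 := MulAction.index_stabilizer (ConjAct G) x
  rw [ConjAct.orbit_eq_carrier_conjClasses] at h1
  have h2 := Subgroup.card_mul_index (MulAction.stabilizer (ConjAct G) x)
  rw [h1, ← Subgroup.nat_card_centralizer_nat_card_stabilizer] at h2
  have h3 : Nat.card (ConjAct G) = Nat.card G := rfl
  rw [h3] at h2
  unfold cs
  rw [Nat.card_coe_set_eq]
  exact h2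

theorem cs_eq_index (x : G) : cs x = (centralizer ({x} : Set G)).index := by
  have h1 := card_cent_mul_cs x
  have h2 := Subgroup.card_mul_index (centralizer ({x} : Set G))
  have hpos : 0 < Nat.card (centralizer ({x} : Set G)) := Nat.card_pos
  exact Nat.eq_of_mul_eq_mul_left hpos (h1.trans h2.symm)

theorem mem_SS_iff {p : ℕ} [Fact p.Prime] (x : G) : x ∈ SS p G ↔ ¬ p ∣ cs x := by
  rw [cs_eq_index]
  constructor
  · rintro ⟨P, hP⟩ hdvd
    have hle : (P : Subgroup G) ≤ centralizer ({x} : Set G) := by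
      intro y hy
      rw [Subgroup.mem_centralizer_iff]
      intro h hh
      rw [Set.mem_singleton_iff] at hh
      subst hh
      exact ((Subgroup.mem_centralizer_iff.mp hP) y hy).symm
    have h1 := Subgroup.index_dvd_of_le hle
    exact P.not_dvd_index (dvd_trans hdvd h1)
  · intro hnd
    obtain ⟨C, hC⟩ : ∃ C, C = centralizer ({x} : Set G) := ⟨_, rfl⟩
    rw [← hC] at hnd
    obtain ⟨Q⟩ : Nonempty (Sylow p C) := inferInstance
    have hQ := Q.card_eq_multiplicity
    have hcard : Nat.card ((Q : Subgroup C).map C.subtype) = p ^ (Nat.card G).factorization p := by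
      rw [← Nat.card_congr ((Q : Subgroup C).equivMapOfInjective C.subtype
        C.subtype_injective).toEquiv, hQ]
      congr 1
      have h2 := Subgroup.card_mul_index C
      rw [← h2, Nat.factorization_mul Nat.card_pos.ne' Subgroup.index_ne_zero_of_finite,
        Finsupp.add_apply, Nat.factorization_eq_zero_of_not_dvd hnd, add_zero]
    refine ⟨Sylow.ofCard _ hcard, ?_⟩
    rw [Sylow.coe_ofCard, Subgroup.mem_centralizer_iff]
    intro y hy
    obtain ⟨c, -, rfl⟩ := hy
    have hc : (c : G) ∈ centralizer ({x} : Set G) := (le_of_eq hC) c.2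
    have := Subgroup.mem_centralizer_iff.mp hc x rfl
    exact this.symm

theorem cnt_eq_sum (φ : ℕ → Prop) [DecidablePred φ] (N : ℕ) (hN : Nat.card G < N) :
    Nat.card {x : G // φ (cs x)} =
      ∑ k ∈ Finset.range N,
        Nat.card {C : ConjClasses G // Nat.card C.carrier = k} * (if φ k then k else 0) := by
  classical
  haveI : Fintype G := Fintype.ofFinite G
  haveI : Fintype (ConjClasses G) := Fintype.ofFinite _
  have h1 : Nat.card {x : G // φ (cs x)} =
      ∑ C : ConjClasses G, (if φ (Nat.card C.carrier) then Nat.card C.carrier else 0) := by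
    rw [Nat.subtype_card (Finset.univ.filter (fun x : G => φ (cs x))) (fun x => by simp)]
    rw [Finset.card_eq_sum_card_fiberwise (f := ConjClasses.mk) (t := Finset.univ)
      (fun _ _ => Finset.mem_coe.mpr (Finset.mem_univ _))]
    refine Finset.sum_congr rfl fun C _ => ?_
    have hC : Nat.card C.carrier =
        (Finset.univ.filter (fun a : G => ConjClasses.mk a = C)).card := by
      rw [Nat.card_coe_set_eq, ← Set.ncard_coe_finset]
      congr 1
      ext a
      simp [ConjClasses.mem_carrier_iff_mk_eq]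
    by_cases hφ : φ (Nat.card C.carrier)
    · rw [if_pos hφ, hC]
      congr 1
      ext a
      simp only [Finset.mem_filter, Finset.mem_univ, true_and]
      constructor
      · rintro ⟨-, h⟩; exact h
      · intro h; refine ⟨?_, h⟩; subst h; exact hφ
    · rw [if_neg hφ, Finset.card_eq_zero]
      ext a
      simp only [Finset.mem_filter, Finset.mem_univ, true_and, Finset.notMem_empty, iff_false]
      rintro ⟨h1, h2⟩; subst h2; exact hφ h1
  rw [h1]
  have hmaps : ∀ C ∈ (Finset.univ : Finset (ConjClasses G)),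
      Nat.card C.carrier ∈ Finset.range N := by
    intro C _
    rw [Finset.mem_range]
    exact lt_of_le_of_lt (Finite.card_subtype_le _) hN
  rw [← Finset.sum_fiberwise_of_maps_to hmaps]
  refine Finset.sum_congr rfl fun k _ => ?_
  have e1 : Nat.card {C : ConjClasses G // Nat.card C.carrier = k} =
      (Finset.univ.filter (fun C : ConjClasses G => Nat.card C.carrier = k)).card :=
    Nat.subtype_card _ (fun x => by simp)
  rw [e1]
  have e2 : ∀ C ∈ Finset.univ.filter (fun C : ConjClasses G => Nat.card C.carrier = k),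
      (if φ (Nat.card C.carrier) then Nat.card C.carrier else 0) = (if φ k then k else 0) := by
    intro C hC
    rw [(Finset.mem_filter.mp hC).2]
  rw [Finset.sum_congr rfl e2, Finset.sum_const, smul_eq_mul]

theorem cnt_transfer {H : Type*} [Group H] [Finite H]
    (h : ∀ k : ℕ, Nat.card {C : ConjClasses G // Nat.card C.carrier = k} =
      Nat.card {C : ConjClasses H // Nat.card C.carrier = k})
    (φ : ℕ → Prop) : Nat.card {x : G // φ (cs x)} = Nat.card {x : H // φ (cs x)} := by
  classical
  rw [cnt_eq_sum φ (Nat.card G + Nat.card H + 1) (by omega),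
    cnt_eq_sum φ (Nat.card G + Nat.card H + 1) (by omega)]
  exact Finset.sum_congr rfl fun k _ => by rw [h k]

theorem card_eq_of_classes {H : Type*} [Group H] [Finite H]
    (h : ∀ k : ℕ, Nat.card {C : ConjClasses G // Nat.card C.carrier = k} =
      Nat.card {C : ConjClasses H // Nat.card C.carrier = k}) :
    Nat.card G = Nat.card H := by
  have := cnt_transfer h (fun _ => True)
  rwa [Nat.card_congr (Equiv.subtypeUnivEquiv (fun _ => trivial)),
    Nat.card_congr (Equiv.subtypeUnivEquiv (fun _ => trivial))] at this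

theorem mem_center_iff_cs (x : G) : x ∈ center G ↔ cs x = 1 := by
  rw [cs_eq_index, Subgroup.index_eq_one, Subgroup.centralizer_eq_top_iff_subset,
    Set.singleton_subset_iff]
  exact Iff.rfl

theorem card_center_eq {H : Type*} [Group H] [Finite H]
    (h : ∀ k : ℕ, Nat.card {C : ConjClasses G // Nat.card C.carrier = k} =
      Nat.card {C : ConjClasses H // Nat.card C.carrier = k}) :
    Nat.card (center G) = Nat.card (center H) := by
  have := cnt_transfer h (fun k => k = 1)
  rwa [← Nat.card_congr (Equiv.subtypeEquivRight (fun x : G => mem_center_iff_cs x)),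
    ← Nat.card_congr (Equiv.subtypeEquivRight (fun x : H => mem_center_iff_cs x))] at this

theorem card_SS_eq {p : ℕ} [Fact p.Prime] {H : Type*} [Group H] [Finite H]
    (h : ∀ k : ℕ, Nat.card {C : ConjClasses G // Nat.card C.carrier = k} =
      Nat.card {C : ConjClasses H // Nat.card C.carrier = k}) :
    Nat.card (SS p G) = Nat.card (SS p H) := by
  have := cnt_transfer h (fun k => ¬ p ∣ k)
  rwa [← Nat.card_congr (Equiv.subtypeEquivRight (fun x : G => mem_SS_iff (p := p) x)),
    ← Nat.card_congr (Equiv.subtypeEquivRight (fun x : H => mem_SS_iff (p := p) x))] at this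

theorem card_center_inf_sylow {p : ℕ} [Fact p.Prime] (P : Sylow p G) :
    Nat.card (center G ⊓ (P : Subgroup G) : Subgroup G) =
      p ^ (Nat.card (center G)).factorization p := by
  have hp : p.Prime := Fact.out
  have h1 := card_sup_mul_card_inf (P : Subgroup G) (center G)
  have h2 := card_mul_relIndex_of_le
    (le_sup_left : (P : Subgroup G) ≤ (P : Subgroup G) ⊔ center G)
  have h3 : ¬ p ∣ (P : Subgroup G).relIndex ((P : Subgroup G) ⊔ center G) := fun hd =>
    P.not_dvd_index (dvd_trans hd (Subgroup.relIndex_dvd_index_of_le le_sup_left))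
  obtain ⟨a, ha⟩ := IsPGroup.iff_card.mp
    (P.isPGroup'.to_le (inf_le_right : center G ⊓ (P : Subgroup G) ≤ P))
  have hPpos : 0 < Nat.card (P : Subgroup G) := Nat.card_pos
  have h4 : Nat.card (center G) =
      (P : Subgroup G).relIndex ((P : Subgroup G) ⊔ center G) * p ^ a := by
    rw [← h2, ha] at h1
    have : Nat.card (P : Subgroup G) *
        ((P : Subgroup G).relIndex ((P : Subgroup G) ⊔ center G) * p ^ a) =
        Nat.card (P : Subgroup G) * Nat.card (center G) := by
      rw [← mul_assoc, h1, mul_comm]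
    exact (Nat.eq_of_mul_eq_mul_left hPpos this).symm
  rw [ha, h4, Nat.factorization_mul (fun h0 => h3 (by rw [h0]; exact dvd_zero p)) (pow_ne_zero _ hp.ne_zero),
    Finsupp.add_apply, Nat.factorization_eq_zero_of_not_dvd h3, hp.factorization_pow,
    Finsupp.single_eq_same, zero_add]

theorem eq_top_of_forall_sylow_le (K : Subgroup G)
    (h : ∀ (q : ℕ) [Fact q.Prime], ∃ Q : Sylow q G, (Q : Subgroup G) ≤ K) : K = ⊤ := by
  rw [← Subgroup.index_eq_one]
  by_contra hne
  obtain ⟨q, hq, hdvd⟩ := Nat.exists_prime_and_dvd hne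
  haveI : Fact q.Prime := ⟨hq⟩
  obtain ⟨Q, hQ⟩ := h q
  exact Q.not_dvd_index (dvd_trans hdvd (Subgroup.index_dvd_of_le hQ))

theorem card_SS_nilpotent {p : ℕ} [Fact p.Prime] (hG : Group.IsNilpotent G) (P : Sylow p G) :
    Nat.card (SS p G) =
      Nat.card (center G ⊓ (P : Subgroup G) : Subgroup G) * (P : Subgroup G).index := by
  have hnorm : ∀ (q : ℕ) (_hq : Fact q.Prime) (Q : Sylow q G), (Q : Subgroup G).Normal :=
    ((Group.isNilpotent_of_finite_tfae (G := G)).out 0 3).mp hG
  haveI hPn : (P : Subgroup G).Normal := hnorm p inferInstance P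
  have hSS : ∀ x, x ∈ SS p G ↔ x ∈ centralizer ((P : Subgroup G) : Set G) := by
    intro x
    constructor
    · rintro ⟨P', hP'⟩
      haveI := Sylow.unique_of_normal P hPn
      rwa [Subsingleton.elim P' P] at hP'
    · intro hx; exact ⟨P, hx⟩
  have hcomm : ∀ (q : ℕ) (_hq : Fact q.Prime), q ≠ p → ∀ Q : Sylow q G,
      ∀ g ∈ (P : Subgroup G), ∀ y ∈ (Q : Subgroup G), g * y = y * g := by
    intro q hq hqp Q g hg y hy
    have hdis : Disjoint (P : Subgroup G) (Q : Subgroup G) :=
      IsPGroup.disjoint_of_ne p q (Ne.symm hqp) _ _ P.isPGroup' Q.isPGroup'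
    exact Subgroup.commute_of_normal_of_disjoint _ _ hPn (hnorm q hq Q) hdis g y hg hy
  have htop : centralizer ((P : Subgroup G) : Set G) ⊔ (P : Subgroup G) = ⊤ := by
    apply eq_top_of_forall_sylow_le
    intro q hq
    by_cases hqp : q = p
    · subst hqp; exact ⟨P, le_sup_right⟩
    · obtain ⟨Q⟩ : Nonempty (Sylow q G) := inferInstance
      refine ⟨Q, le_trans ?_ le_sup_left⟩
      intro y hy
      rw [Subgroup.mem_centralizer_iff]
      intro g hg
      exact hcomm q hq hqp Q g hg y hy
  have hinf : (P : Subgroup G) ⊓ centralizer ((P : Subgroup G) : Set G) =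
      center G ⊓ (P : Subgroup G) := by
    apply le_antisymm
    · intro x hx
      have hx := Subgroup.mem_inf.mp hx
      refine Subgroup.mem_inf.mpr ⟨?_, hx.1⟩
      have hxtop : centralizer ({x} : Set G) = ⊤ := by
        apply eq_top_of_forall_sylow_le
        intro q hq
        by_cases hqp : q = p
        · subst hqp
          refine ⟨P, fun y hy => ?_⟩
          rw [Subgroup.mem_centralizer_iff]
          intro h hh
          rw [Set.mem_singleton_iff] at hh; subst hh
          exact ((Subgroup.mem_centralizer_iff.mp hx.2) y hy).symm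
        · obtain ⟨Q⟩ : Nonempty (Sylow q G) := inferInstance
          refine ⟨Q, fun y hy => ?_⟩
          rw [Subgroup.mem_centralizer_iff]
          intro h hh
          rw [Set.mem_singleton_iff] at hh; subst hh
          exact hcomm q hq hqp Q h hx.1 y hy
      rw [Subgroup.centralizer_eq_top_iff_subset, Set.singleton_subset_iff] at hxtop
      exact hxtop
    · intro x hx
      have hx := Subgroup.mem_inf.mp hx
      refine Subgroup.mem_inf.mpr ⟨hx.2, ?_⟩
      rw [Subgroup.mem_centralizer_iff]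
      intro g _
      exact Subgroup.mem_center_iff.mp hx.1 g
  have h1 := card_sup_mul_card_inf (centralizer ((P : Subgroup G) : Set G)) (P : Subgroup G)
  rw [htop, hinf, Subgroup.card_top] at h1
  have h2 := Subgroup.card_mul_index (P : Subgroup G)
  rw [Nat.card_congr (Equiv.subtypeEquivRight hSS)]
  have hPpos : 0 < Nat.card (P : Subgroup G) := Nat.card_pos
  have : Nat.card (P : Subgroup G) * Nat.card (centralizer ((P : Subgroup G) : Set G)) =
      Nat.card (P : Subgroup G) *
        (Nat.card (center G ⊓ (P : Subgroup G) : Subgroup G) * (P : Subgroup G).index) := by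
    rw [← h1, ← h2]; ring
  exact Nat.eq_of_mul_eq_mul_left hPpos this

theorem card_mul_closed (E : Subgroup G) (T : Set G) (h : ∀ y ∈ T, ∀ e ∈ E, y * e ∈ T) :
    Nat.card T = Nat.card E * Nat.card ((QuotientGroup.mk : G → G ⧸ E) '' T) := by
  have hT : T = (QuotientGroup.mk : G → G ⧸ E) ⁻¹' ((QuotientGroup.mk : G → G ⧸ E) '' T) := by
    ext y
    constructor
    · intro hy; exact ⟨y, hy, rfl⟩
    · rintro ⟨y', hy', heq⟩
      have h1 := QuotientGroup.eq.mp heq
      have h2 := h y' hy' _ h1
      rwa [mul_inv_cancel_left] at h2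
  rw [← QuotientGroup.card_preimage_mk, ← hT]

theorem central_eq_one_of_conj {p : ℕ} [Fact p.Prime] {x g c : G}
    (hc : c ∈ center G) (hcp : ∃ k, orderOf c = p ^ k) (hx : ¬ p ∣ cs x)
    (h : g * x * g⁻¹ = x * c) : c = 1 := by
  have hcc : ∀ a : G, a * c = c * a := fun a => Subgroup.mem_center_iff.mp hc a
  have hcl : ∀ y ∈ (ConjClasses.mk x).carrier, ∀ e ∈ zpowers c,
      y * e ∈ (ConjClasses.mk x).carrier := by
    intro y hy e he
    rw [← mem_powers_iff_mem_zpowers] at he
    obtain ⟨n, rfl⟩ := he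
    induction n with
    | zero => simpa using hy
    | succ n ih =>
      rw [ConjClasses.mem_carrier_iff_mk_eq, ConjClasses.mk_eq_mk_iff_isConj, isConj_iff] at ih ⊢
      obtain ⟨d, hd⟩ := ih
      refine ⟨g⁻¹ * d, ?_⟩
      have e1 : d * (y * c ^ (n + 1)) * d⁻¹ = x * c := by
        rw [← hd]
        have h3 := hcc d⁻¹
        calc d * (y * c ^ (n + 1)) * d⁻¹ = d * (y * c ^ n) * (c * d⁻¹) := by
              rw [pow_succ]; group
          _ = d * (y * c ^ n) * (d⁻¹ * c) := by rw [h3]
          _ = d * (y * c ^ n) * d⁻¹ * c := by group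
      calc g⁻¹ * d * (y * c ^ (n + 1)) * (g⁻¹ * d)⁻¹
          = g⁻¹ * (d * (y * c ^ (n + 1)) * d⁻¹) * g := by group
        _ = g⁻¹ * (g * x * g⁻¹) * g := by rw [e1, h]
        _ = x := by group
  have hcard := card_mul_closed (zpowers c) (ConjClasses.mk x).carrier hcl
  have hdvd : orderOf c ∣ cs x := by
    unfold cs; rw [hcard, Nat.card_zpowers]; exact dvd_mul_right _ _
  obtain ⟨k, hk⟩ := hcp
  have hk0 : k = 0 := by
    by_contra hk0
    apply hx
    exact dvd_trans (dvd_trans (dvd_pow_self p hk0) (hk ▸ dvd_rfl)) hdvd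
  rw [hk0, pow_zero, orderOf_eq_one_iff] at hk
  exact hk

theorem center_inf_of_card {p : ℕ} [Fact p.Prime] (P : Sylow p G)
    (hS : Nat.card (SS p G) =
      Nat.card (center G ⊓ (P : Subgroup G) : Subgroup G) * (P : Subgroup G).index) :
    Nat.card ((P : Subgroup G) ⊓ centralizer ((P : Subgroup G) : Set G) : Subgroup G) ≤
      Nat.card (center G ⊓ (P : Subgroup G) : Subgroup G) := by
  classical
  have hp : p.Prime := Fact.out
  obtain ⟨Zp, hZp⟩ : ∃ Zp, Zp = center G ⊓ (P : Subgroup G) := ⟨_, rfl⟩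
  obtain ⟨C, hC⟩ : ∃ C, C = centralizer ((P : Subgroup G) : Set G) := ⟨_, rfl⟩
  rw [← hZp] at hS ⊢
  rw [← hC]
  have hZc : Zp ≤ center G := hZp ▸ inf_le_left
  have hZP : Zp ≤ (P : Subgroup G) := hZp ▸ inf_le_right
  haveI hZn : Zp.Normal := ⟨fun n hn g => by
    have := Subgroup.mem_center_iff.mp (hZc hn) g
    rw [this, mul_inv_cancel_right]; exact hn⟩
  have hCmem : ∀ y, y ∈ C ↔ ∀ h ∈ (P : Subgroup G), h * y = y * h := fun y => by
    rw [hC, Subgroup.mem_centralizer_iff]; exact Iff.rfl
  have hZC : Zp ≤ C := fun e he => hC ▸ Subgroup.center_le_centralizer _ (hZc he)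
  have hSZ : ∀ y ∈ SS p G, ∀ e ∈ Zp, y * e ∈ SS p G := by
    rintro y ⟨P', hy⟩ e he
    exact ⟨P', Subgroup.mul_mem _ hy (Subgroup.center_le_centralizer _ (hZc he))⟩
  have hcS := card_mul_closed Zp (SS p G) hSZ
  have hcC := card_mul_closed Zp (C : Set G) (fun y hy e he => C.mul_mem hy (hZC he))
  have hSconj : ∀ (g x : G), x ∈ SS p G → g * x * g⁻¹ ∈ SS p G := by
    intro g x hx
    rw [mem_SS_iff] at hx ⊢
    have : cs (g * x * g⁻¹) = cs x := by
      unfold cs
      rw [show ConjClasses.mk (g * x * g⁻¹) = ConjClasses.mk x from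
        ConjClasses.mk_eq_mk_iff_isConj.mpr (isConj_iff.mpr ⟨g⁻¹, by group⟩)]
    rwa [this]
  have hdvd : p ∣ Nat.card ((QuotientGroup.mk : G → G ⧸ Zp) '' SS p G \
      (QuotientGroup.mk : G → G ⧸ Zp) '' (C : Set G) : Set (G ⧸ Zp)) := by
    apply dvd_card_of_conj_no_fixed ((P : Subgroup G).map (QuotientGroup.mk' Zp))
      (P.isPGroup'.map _)
    · rintro r ⟨g, hg, rfl⟩ t ⟨⟨x, hx, rfl⟩, hnot⟩
      refine ⟨⟨g * x * g⁻¹, hSconj g x hx, rfl⟩, ?_⟩
      rintro ⟨y, hy, heq⟩
      apply hnot
      refine ⟨y, hy, ?_⟩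
      have hyg : g⁻¹ * y * g = y := by
        have := (hCmem y).mp hy g hg
        rw [mul_assoc, ← this, inv_mul_cancel_left]
      have heq' : ((y : G) : G ⧸ Zp) = (g : G ⧸ Zp) * (x : G ⧸ Zp) * (g : G ⧸ Zp)⁻¹ := heq
      calc ((y : G) : G ⧸ Zp) = ((g⁻¹ * y * g : G) : G ⧸ Zp) := by rw [hyg]
        _ = (g : G ⧸ Zp)⁻¹ * (y : G ⧸ Zp) * (g : G ⧸ Zp) := rfl
        _ = (g : G ⧸ Zp)⁻¹ * ((g : G ⧸ Zp) * (x : G ⧸ Zp) * (g : G ⧸ Zp)⁻¹) * (g : G ⧸ Zp) := by
            rw [heq']
        _ = (x : G ⧸ Zp) := by group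
    · rintro t ⟨⟨x, hx, rfl⟩, hnot⟩
      by_contra hall
      push_neg at hall
      apply hnot
      refine ⟨x, ?_, rfl⟩
      rw [SetLike.mem_coe, hCmem]
      intro h hh
      have h1 := hall _ (Subgroup.mem_map_of_mem (QuotientGroup.mk' Zp) hh)
      have h2 : ((x : G) : G ⧸ Zp) = ((h * x * h⁻¹ : G) : G ⧸ Zp) := h1.symm
      rw [QuotientGroup.eq] at h2
      have hord : ∃ k, orderOf (x⁻¹ * (h * x * h⁻¹)) = p ^ k := by
        obtain ⟨k, hk⟩ := (IsPGroup.iff_orderOf.mp P.isPGroup') ⟨_, hZP h2⟩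
        exact ⟨k, by rw [← hk, Subgroup.orderOf_mk]⟩
      have hc1 := central_eq_one_of_conj (p := p) (x := x) (g := h)
        (c := x⁻¹ * (h * x * h⁻¹)) (hZc h2) hord ((mem_SS_iff x).mp hx) (by group)
      have h3 : h * x * h⁻¹ = x := by
        have h4 := congrArg (fun u => x * u) hc1
        simpa [mul_assoc] using h4
      calc h * x = h * x * h⁻¹ * h := by group
        _ = x * h := by rw [h3]
  have hsub : (QuotientGroup.mk : G → G ⧸ Zp) '' (C : Set G) ⊆
      (QuotientGroup.mk : G → G ⧸ Zp) '' SS p G :=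
    Set.image_mono (fun y hy => ⟨P, hC ▸ hy⟩)
  have hsplit : Nat.card ((QuotientGroup.mk : G → G ⧸ Zp) '' SS p G) =
      Nat.card ((QuotientGroup.mk : G → G ⧸ Zp) '' (C : Set G)) +
      Nat.card ((QuotientGroup.mk : G → G ⧸ Zp) '' SS p G \
        (QuotientGroup.mk : G → G ⧸ Zp) '' (C : Set G) : Set (G ⧸ Zp)) := by
    rw [Nat.card_coe_set_eq, Nat.card_coe_set_eq, Nat.card_coe_set_eq,
      ← Set.ncard_sdiff_add_ncard_of_subset hsub, add_comm]
  have hZpos : 0 < Nat.card Zp := Nat.card_pos
  have hidx : Nat.card ((QuotientGroup.mk : G → G ⧸ Zp) '' SS p G) = (P : Subgroup G).index := by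
    rw [hcS] at hS
    exact Nat.eq_of_mul_eq_mul_left hZpos hS
  have hnd : ¬ p ∣ Nat.card ((QuotientGroup.mk : G → G ⧸ Zp) '' (C : Set G)) := by
    intro hd
    apply P.not_dvd_index
    rw [← hidx, hsplit]
    exact dvd_add hd hdvd
  obtain ⟨b, hb⟩ := IsPGroup.iff_card.mp
    (P.isPGroup'.to_le (inf_le_left : (P : Subgroup G) ⊓ C ≤ P))
  obtain ⟨a, ha⟩ := IsPGroup.iff_card.mp (P.isPGroup'.to_le hZP)
  have h5 : Nat.card ((P : Subgroup G) ⊓ C : Subgroup G) ∣ Nat.card C :=
    Subgroup.card_dvd_of_le inf_le_right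
  have hcC' : Nat.card C = Nat.card Zp *
      Nat.card ((QuotientGroup.mk : G → G ⧸ Zp) '' (C : Set G)) := hcC
  rw [hcC', hb] at h5
  have hcop : (p ^ b).Coprime (Nat.card ((QuotientGroup.mk : G → G ⧸ Zp) '' (C : Set G))) :=
    Nat.Coprime.pow_left b ((Nat.Prime.coprime_iff_not_dvd hp).mpr hnd)
  have h6 : p ^ b ∣ Nat.card Zp := hcop.dvd_of_dvd_mul_right h5
  rw [hb]
  exact Nat.le_of_dvd hZpos h6

theorem sylow_normal_of_card {p : ℕ} [Fact p.Prime]
    (hS : ∀ P : Sylow p G, Nat.card (SS p G) =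
      Nat.card (center G ⊓ (P : Subgroup G) : Subgroup G) * (P : Subgroup G).index)
    (P : Sylow p G) : (P : Subgroup G).Normal := by
  classical
  haveI : Fintype G := Fintype.ofFinite G
  haveI : Fintype (Sylow p G) := Fintype.ofFinite _
  obtain ⟨z, hz⟩ : ∃ z, z = Nat.card (center G ⊓ (P : Subgroup G) : Subgroup G) := ⟨_, rfl⟩
  obtain ⟨n, hn⟩ : ∃ n, n = Nat.card (Sylow p G) := ⟨_, rfl⟩
  obtain ⟨i, hi⟩ : ∃ i, i = (P : Subgroup G).index := ⟨_, rfl⟩
  have hidx : ∀ P' : Sylow p G, (P' : Subgroup G).index = i := by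
    intro P'
    have h1 := Subgroup.card_mul_index (P' : Subgroup G)
    have h2 := Subgroup.card_mul_index (P : Subgroup G)
    rw [P'.card_eq_multiplicity] at h1
    rw [P.card_eq_multiplicity] at h2
    rw [hi]
    exact Nat.eq_of_mul_eq_mul_left (pow_pos (Fact.out : p.Prime).pos _) (h1.trans h2.symm)
  have hipos : 0 < i := hi ▸ Nat.pos_of_ne_zero Subgroup.index_ne_zero_of_finite
  have hSz : Nat.card (SS p G) = z * i := by rw [hS P, hz, hi]
  have hzP : ∀ P' : Sylow p G,
      Nat.card (center G ⊓ (P' : Subgroup G) : Subgroup G) = z := by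
    intro P'
    have h1 := hS P'
    rw [hSz, hidx P'] at h1
    exact (Nat.eq_of_mul_eq_mul_right hipos h1).symm
  have hzpos : 0 < z := hz ▸ Nat.card_pos
  have hnpos : 0 < n := hn ▸ Nat.card_pos
  have hbound : ∀ P' : Sylow p G,
      n * Nat.card (centralizer ((P' : Subgroup G) : Set G)) ≤ z * i := by
    intro P'
    have h1 := center_inf_of_card P' (hS P')
    rw [hzP P'] at h1
    have h2 := card_mul_relIndex_of_le (inf_le_right : (P' : Subgroup G) ⊓
      centralizer ((P' : Subgroup G) : Set G) ≤ centralizer ((P' : Subgroup G) : Set G))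
    rw [Subgroup.inf_relIndex_right] at h2
    have h3 : (P' : Subgroup G).relIndex (centralizer ((P' : Subgroup G) : Set G)) ≤
        (P' : Subgroup G).relIndex (normalizer ((P' : Subgroup G) : Set G)) :=
      Subgroup.relIndex_le_of_le_right (Subgroup.centralizer_le_normalizer _)
        (Subgroup.index_ne_zero_of_finite
          (H := (P' : Subgroup G).subgroupOf (normalizer ((P' : Subgroup G) : Set G))))
    have h4 := Subgroup.relIndex_mul_index
      (Subgroup.le_normalizer : (P' : Subgroup G) ≤ normalizer ((P' : Subgroup G) : Set G))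
    have h5 : Nat.card (Sylow p G) = (normalizer ((P' : Subgroup G) : Set G)).index :=
      Sylow.card_eq_index_normalizer P'
    rw [← h5, ← hn, hidx P'] at h4
    calc n * Nat.card (centralizer ((P' : Subgroup G) : Set G))
        = n * (Nat.card ((P' : Subgroup G) ⊓ centralizer ((P' : Subgroup G) : Set G) :
            Subgroup G) *
            (P' : Subgroup G).relIndex (centralizer ((P' : Subgroup G) : Set G))) := by rw [h2]
      _ ≤ n * (z * (P' : Subgroup G).relIndex (normalizer ((P' : Subgroup G) : Set G))) :=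
          Nat.mul_le_mul_left _ (Nat.mul_le_mul h1 h3)
      _ = z * ((P' : Subgroup G).relIndex (normalizer ((P' : Subgroup G) : Set G)) * n) := by
          ring
      _ = z * i := by rw [h4]
  obtain ⟨W, hW⟩ : ∃ W, W = center G ⊓ (P : Subgroup G) := ⟨_, rfl⟩
  have hWc : ∀ P' : Sylow p G, W ≤ centralizer ((P' : Subgroup G) : Set G) := fun P' => by
    rw [hW]; exact le_trans inf_le_left (Subgroup.center_le_centralizer _)
  obtain ⟨T, hT⟩ : ∃ T : Sylow p G → Finset G, T = fun P' : Sylow p G =>
      Finset.univ.filter (fun x : G => x ∈ centralizer ((P' : Subgroup G) : Set G) ∧ x ∉ W) :=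
    ⟨_, rfl⟩
  have hcover : (Finset.univ.filter (fun x : G => x ∈ SS p G)) ⊆
      (Finset.univ.filter (fun x : G => x ∈ W)) ∪ Finset.univ.biUnion T := by
    intro x hx
    rw [Finset.mem_filter] at hx
    obtain ⟨P', hP'⟩ := hx.2
    by_cases hxW : x ∈ W
    · exact Finset.mem_union_left _ (Finset.mem_filter.mpr ⟨Finset.mem_univ _, hxW⟩)
    · refine Finset.mem_union_right _ (Finset.mem_biUnion.mpr ⟨P', Finset.mem_univ _, ?_⟩)
      rw [hT]
      exact Finset.mem_filter.mpr ⟨Finset.mem_univ _, hP', hxW⟩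
  have hcard1 := Finset.card_le_card hcover
  have hcard2 := Finset.card_union_le (Finset.univ.filter (fun x : G => x ∈ W))
    (Finset.univ.biUnion T)
  have hcard3 := Finset.card_biUnion_le (s := (Finset.univ : Finset (Sylow p G))) (t := T)
  have hfS : Nat.card (SS p G) = (Finset.univ.filter (fun x : G => x ∈ SS p G)).card :=
    Nat.subtype_card _ (fun x => by simp)
  have hfW : z = (Finset.univ.filter (fun x : G => x ∈ W)).card := by
    rw [hz, ← hW]
    exact Nat.subtype_card _ (fun x => by simp)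
  have hfT : ∀ P' : Sylow p G,
      (T P').card + z = Nat.card (centralizer ((P' : Subgroup G) : Set G)) := by
    intro P'
    have h7 : Nat.card (centralizer ((P' : Subgroup G) : Set G)) =
        (Finset.univ.filter
          (fun x : G => x ∈ centralizer ((P' : Subgroup G) : Set G))).card :=
      Nat.subtype_card _ (fun x => by simp)
    rw [h7, hfW, ← Finset.card_union_of_disjoint]
    · congr 1
      ext x
      rw [hT]
      simp only [Finset.mem_union, Finset.mem_filter, Finset.mem_univ, true_and]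
      constructor
      · rintro (⟨h, -⟩ | h)
        · exact h
        · exact hWc P' h
      · intro h
        by_cases hxW : x ∈ W
        · exact Or.inr hxW
        · exact Or.inl ⟨h, hxW⟩
    · rw [Finset.disjoint_left]
      intro x hx hx'
      rw [hT] at hx
      exact (Finset.mem_filter.mp hx).2.2 (Finset.mem_filter.mp hx').2
  have hsum : ∑ P' : Sylow p G, ((T P').card + z) * n ≤ ∑ _P' : Sylow p G, z * i := by
    apply Finset.sum_le_sum
    intro P' _
    rw [hfT P', mul_comm]
    exact hbound P'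
  have hnc : Fintype.card (Sylow p G) = n := by rw [hn, Nat.card_eq_fintype_card]
  rw [Finset.sum_const, Finset.card_univ, smul_eq_mul, ← Finset.sum_mul,
    Finset.sum_add_distrib, Finset.sum_const, Finset.card_univ, smul_eq_mul, hnc] at hsum
  have hsum' : ∑ P' : Sylow p G, (T P').card + n * z ≤ z * i := by
    refine Nat.le_of_mul_le_mul_right ?_ hnpos
    rw [mul_comm (z * i) n]; exact hsum
  have h8 : z * i ≤ z + ∑ P' : Sylow p G, (T P').card := by
    rw [← hSz, hfS, hfW]
    exact le_trans hcard1 (le_trans hcard2 (Nat.add_le_add_left hcard3 _))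
  have hn1 : n * z ≤ 1 * z := by linarith
  have hn1' : n ≤ 1 := Nat.le_of_mul_le_mul_right hn1 hzpos
  have h5 : Nat.card (Sylow p G) = (normalizer ((P : Subgroup G) : Set G)).index :=
    Sylow.card_eq_index_normalizer P
  have h6 : (normalizer ((P : Subgroup G) : Set G)).index = 1 := by
    have := Nat.pos_of_ne_zero
      (Subgroup.index_ne_zero_of_finite (H := normalizer ((P : Subgroup G) : Set G)))
    rw [← h5, ← hn]; omega
  exact Subgroup.normalizer_eq_top_iff.mp (Subgroup.index_eq_one.mp h6)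

end Cfsg.Agent.Lib.helper29.CHM
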