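import Mathlib

set_option autoImplicit false

namespace Cfsg.Agent.Lib.helper29.FixProd

open Equiv Equiv.Perm

section gen
variable {α : Type*} [DecidableEq α]

/-- the 3-cycle `x → y → z → x` -/
def cyc (x y z : α) : Perm α := swap x y * swap y z

lemma cyc_fst {x y z : α} (hxy : x ≠ y) (hxz : x ≠ z) : cyc x y z x = y := by
  simp [cyc, swap_apply_of_ne_of_ne hxy hxz]

lemma cyc_snd {x y z : α} (hxz : x ≠ z) (hyz : y ≠ z) : cyc x y z y = z := by
  simp [cyc, swap_apply_of_ne_of_ne hxz.symm hyz.symm]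

lemma cyc_trd (x y z : α) : cyc x y z z = x := by simp [cyc]

lemma cyc_other {x y z p : α} (h1 : p ≠ x) (h2 : p ≠ y) (h3 : p ≠ z) : cyc x y z p = p := by
  simp [cyc, swap_apply_of_ne_of_ne h2 h3, swap_apply_of_ne_of_ne h1 h2]

lemma cyc_mem [Fintype α] {x y z : α} (hxy : x ≠ y) (hyz : y ≠ z) :
    cyc x y z ∈ alternatingGroup α := by
  simp [cyc, Equiv.Perm.mem_alternatingGroup, sign_swap hxy, sign_swap hyz]

lemma move_gen [Finite α] (b' c t : Perm α)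
    (H1 : ∀ q, b' (t q) = c (t q) → t (b' q) = c (t q))
    (q₀ : α) (H2 : t (b' q₀) = c (t q₀)) (H3 : b' (t q₀) ≠ c (t q₀)) :
    Nat.card {p | b' p = c p} < Nat.card {p | (t * b' * t⁻¹) p = c p} := by
  have hsub : {p | b' p = c p} ⊂ {p | (t * b' * t⁻¹) p = c p} := by
    refine ⟨fun p hp => ?_, fun h => ?_⟩
    · have h := H1 (t⁻¹ p) (by simpa using hp)
      simpa using h
    · exact H3 (h (by simpa using H2 : t q₀ ∈ {p | (t * b' * t⁻¹) p = c p}))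
  rw [Nat.card_coe_set_eq, Nat.card_coe_set_eq]
  exact Set.ncard_lt_ncard hsub (Set.toFinite _)

lemma move3 [Finite α] (b' c : Perm α) (x y z : α) (hxy : x ≠ y) (hxz : x ≠ z) (hyz : y ≠ z)
    (h1 : b' y = c y → cyc x y z (b' x) = c y)
    (h2 : b' z = c z → cyc x y z (b' y) = c z)
    (h3 : b' x = c x → cyc x y z (b' z) = c x)
    (hgen : ∀ q, q ≠ x → q ≠ y → q ≠ z → b' q = c q → b' q ≠ x ∧ b' q ≠ y ∧ b' q ≠ z)
    (hn1 : cyc x y z (b' x) = c y) (hn2 : b' y ≠ c y) :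
    Nat.card {p | b' p = c p} <
      Nat.card {p | (cyc x y z * b' * (cyc x y z)⁻¹) p = c p} := by
  refine move_gen b' c (cyc x y z) ?_ x ?_ ?_
  · intro q hq
    by_cases hqx : q = x
    · rw [hqx] at hq ⊢; rw [cyc_fst hxy hxz] at hq ⊢; exact h1 hq
    by_cases hqy : q = y
    · rw [hqy] at hq ⊢; rw [cyc_snd hxz hyz] at hq ⊢; exact h2 hq
    by_cases hqz : q = z
    · rw [hqz] at hq ⊢; rw [cyc_trd] at hq ⊢; exact h3 hq
    rw [cyc_other hqx hqy hqz] at hq ⊢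
    obtain ⟨a1, a2, a3⟩ := hgen q hqx hqy hqz hq
    rw [cyc_other a1 a2 a3]; exact hq
  · rw [cyc_fst hxy hxz]; exact hn1
  · rw [cyc_fst hxy hxz]; exact hn2

lemma conj_app (g b : Perm α) {p q p' q' : α} (hb : b p = q) (hp : g p = p') (hq : g q = q') :
    (g * b * g⁻¹) p' = q' := by
  subst hp hq hb; simp

lemma conj_app_ne (g b : Perm α) {p q p' q' : α} (hb : b p ≠ q) (hp : g p = p')
    (hq : g q = q') : (g * b * g⁻¹) p' ≠ q' := by
  subst hp hq; simpa using hb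

lemma exists_perm_map : ∀ (l : List (α × α)), (l.map Prod.fst).Nodup → (l.map Prod.snd).Nodup →
    ∃ g : Perm α, ∀ pq ∈ l, g pq.1 = pq.2
  | [], _, _ => ⟨1, by simp⟩
  | (p, q) :: l, h1, h2 => by
      simp only [List.map_cons, List.nodup_cons] at h1 h2
      obtain ⟨g, hg⟩ := exists_perm_map l h1.2 h2.2
      refine ⟨swap (g p) q * g, ?_⟩
      intro pq hpq
      rcases List.mem_cons.1 hpq with rfl | hpq
      · simp
      · have h3 : g pq.1 = pq.2 := hg pq hpq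
        have h4 : pq.2 ≠ q := by
          intro h; exact h2.1 (by rw [← h]; exact List.mem_map_of_mem (f := Prod.snd) hpq)
        have h5 : pq.1 ≠ p := by
          intro h; exact h1.1 (by rw [← h]; exact List.mem_map_of_mem (f := Prod.fst) hpq)
        have h6 : pq.2 ≠ g p := by rw [← h3]; exact fun h => h5 (g.injective h)
        simp [Perm.mul_apply, h3, swap_apply_of_ne_of_ne h6 h4]

end gen

lemma exists_avoid {n : ℕ} (S : Finset (Fin n)) (h : S.card < n) : ∃ p, p ∉ S := by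
  by_contra hcon
  push_neg at hcon
  have : S = Finset.univ := Finset.eq_univ_iff_forall.2 hcon
  rw [this] at h
  simp at h

lemma parity_fix {n : ℕ} (b σ g : Perm (Fin n)) (hσ : Perm.sign σ = -1) (hc : σ * b = b * σ) :
    ∃ g' ∈ alternatingGroup (Fin n), g' * b * g'⁻¹ = g * b * g⁻¹ := by
  by_cases hg : Perm.sign g = 1
  · exact ⟨g, Perm.mem_alternatingGroup.2 hg, rfl⟩
  · have hg' : Perm.sign g = -1 := (Int.units_eq_one_or _).resolve_left hg
    refine ⟨g * σ, Perm.mem_alternatingGroup.2 (by simp [hg', hσ]), ?_⟩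
    have h : σ * b * σ⁻¹ = b := by rw [hc]; group
    calc g * σ * b * (g * σ)⁻¹ = g * (σ * b * σ⁻¹) * g⁻¹ := by group
      _ = g * b * g⁻¹ := by rw [h]

lemma even_fix {n : ℕ} (g₀ : Perm (Fin n)) (e e' : Fin n) (hee : e ≠ e') :
    ∃ g ∈ alternatingGroup (Fin n), ∀ p, g₀ p ≠ e → g₀ p ≠ e' → g p = g₀ p := by
  by_cases hg : Perm.sign g₀ = 1
  · exact ⟨g₀, Perm.mem_alternatingGroup.2 hg, fun _ _ _ => rfl⟩
  · have hg' : Perm.sign g₀ = -1 := (Int.units_eq_one_or _).resolve_left hg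
    refine ⟨swap e e' * g₀, Perm.mem_alternatingGroup.2 (by simp [hg', sign_swap hee]), ?_⟩
    intro p h1 h2
    simp [swap_apply_of_ne_of_ne h1 h2]

/-- the conclusion: two `A_n`-conjugates of `b` with different numbers of agreements with `c` -/
def Concl (n : ℕ) (c b : Perm (Fin n)) : Prop :=
  ∃ h₁ ∈ alternatingGroup (Fin n), ∃ h₂ ∈ alternatingGroup (Fin n),
    Nat.card {p | (h₁ * b * h₁⁻¹) p = c p} < Nat.card {p | (h₂ * b * h₂⁻¹) p = c p}

lemma finish {n : ℕ} (b c g : Perm (Fin n)) (hg : g ∈ alternatingGroup (Fin n)) (x y z : Fin n)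
    (hxy : x ≠ y) (hyz : y ≠ z)
    (h : Nat.card {p | (g * b * g⁻¹) p = c p} <
      Nat.card {p | (cyc x y z * (g * b * g⁻¹) * (cyc x y z)⁻¹) p = c p}) : Concl n c b := by
  refine ⟨g, hg, cyc x y z * g, mul_mem (cyc_mem hxy hyz) hg, ?_⟩
  have e : cyc x y z * g * b * (cyc x y z * g)⁻¹ = cyc x y z * (g * b * g⁻¹) * (cyc x y z)⁻¹ := by
    group
  rw [e]; exact h

lemma moveI {n : ℕ} (b c g : Perm (Fin n)) (hg : g ∈ alternatingGroup (Fin n)) (u x y : Fin n)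
    (hux : u ≠ x) (huy : u ≠ y) (hxy : x ≠ y) (hcx : c x = y) (hcu : c u ≠ x)
    (B1 : (g * b * g⁻¹) u = x) (B2 : (g * b * g⁻¹) x = u) (B3 : (g * b * g⁻¹) y ≠ c y) :
    Concl n c b := by
  refine finish b c g hg u x y hux hxy (move3 _ c u x y hux huy hxy ?_ ?_ ?_ ?_ ?_ ?_)
  · intro h; exact absurd (B2.symm.trans (h.trans hcx)) huy
  · intro h; exact absurd h B3
  · intro h; exact absurd (B1.symm.trans h).symm hcu
  · intro q h1 h2 h3 hq
    exact ⟨fun h => h2 ((g * b * g⁻¹).injective (h.trans B2.symm)),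
      fun h => h1 ((g * b * g⁻¹).injective (h.trans B1.symm)),
      fun h => h2 (c.injective ((hq.symm.trans h).trans hcx.symm))⟩
  · rw [B1, cyc_snd huy hxy, hcx]
  · rw [B2, hcx]; exact huy

lemma moveIII {n : ℕ} (b c g : Perm (Fin n)) (hg : g ∈ alternatingGroup (Fin n))
    (i x y m : Fin n) (hix : i ≠ x) (hiy : i ≠ y) (hxy : x ≠ y) (hmy : m ≠ y) (hcx : c x = y)
    (hci : c i ≠ x) (hcm : c m ≠ i)
    (B1 : (g * b * g⁻¹) i = x) (B2 : (g * b * g⁻¹) x = m) (B3 : (g * b * g⁻¹) m = i)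
    (B4 : (g * b * g⁻¹) y ≠ c y) : Concl n c b := by
  refine finish b c g hg i x y hix hxy (move3 _ c i x y hix hiy hxy ?_ ?_ ?_ ?_ ?_ ?_)
  · intro h; exact absurd (B2.symm.trans (h.trans hcx)) hmy
  · intro h; exact absurd h B4
  · intro h; exact absurd (B1.symm.trans h).symm hci
  · intro q h1 h2 h3 hq
    refine ⟨fun h => ?_, fun h => h1 ((g * b * g⁻¹).injective (h.trans B1.symm)),
      fun h => h2 (c.injective ((hq.symm.trans h).trans hcx.symm))⟩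
    have hqm : q = m := (g * b * g⁻¹).injective (h.trans B3.symm)
    rw [hqm] at hq h
    exact hcm (hq.symm.trans h)
  · rw [B1, cyc_snd hiy hxy, hcx]
  · rw [B2, hcx]; exact hmy

lemma moveL4 {n : ℕ} (b c g : Perm (Fin n)) (hg : g ∈ alternatingGroup (Fin n)) (j s d : Fin n)
    (hjs : j ≠ s) (hjd : j ≠ d) (hsd : s ≠ d) (hcs : c s = d) (hcd : c d ≠ j)
    (B1 : (g * b * g⁻¹) d = j) (B2 : (g * b * g⁻¹) j = s) (B3 : (g * b * g⁻¹) s ≠ d) :
    Concl n c b := by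
  refine finish b c g hg j s d hjs hsd (move3 _ c j s d hjs hjd hsd ?_ ?_ ?_ ?_ ?_ ?_)
  · intro h; exact absurd (h.trans hcs) B3
  · intro h; exact absurd (B1.symm.trans h).symm hcd
  · intro h; rw [B1, cyc_fst hjs hjd, ← h, B2]
  · intro q h1 h2 h3 hq
    exact ⟨fun h => h3 ((g * b * g⁻¹).injective (h.trans B1.symm)),
      fun h => h1 ((g * b * g⁻¹).injective (h.trans B2.symm)),
      fun h => h2 (c.injective ((hq.symm.trans h).trans hcs.symm))⟩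
  · rw [B2, cyc_snd hjd hsd, hcs]
  · rw [hcs]; exact B3

lemma caseI {n : ℕ} (hn : 5 ≤ n) (c b : Perm (Fin n)) (x : Fin n) (hx : c x ≠ x)
    (u₀ : Fin n) (hu1 : b u₀ ≠ u₀) (hu2 : b (b u₀) = u₀) : Concl n c b := by
  obtain ⟨y, hcx⟩ : ∃ y, c x = y := ⟨_, rfl⟩
  have hxy : x ≠ y := by rw [← hcx]; exact hx.symm
  have hcy : c y ≠ y := by rw [← hcx]; exact fun h => hx (c.injective h)
  obtain ⟨w₀, hw₀⟩ := exists_avoid ({u₀, b u₀} : Finset (Fin n))
    (lt_of_le_of_lt Finset.card_le_two (by omega))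
  simp only [Finset.mem_insert, Finset.mem_singleton, not_or] at hw₀
  obtain ⟨hw1, hw2⟩ := hw₀
  obtain ⟨u, hu⟩ := exists_avoid ({x, y, c⁻¹ x} : Finset (Fin n))
    (lt_of_le_of_lt Finset.card_le_three (by omega))
  simp only [Finset.mem_insert, Finset.mem_singleton, not_or] at hu
  obtain ⟨hux, huy, hux'⟩ := hu
  have hcu : c u ≠ x := fun h => hux' (by rw [← h]; simp)
  have hσ : Perm.sign (swap u₀ (b u₀)) = -1 := sign_swap hu1.symm
  have hcomm : swap u₀ (b u₀) * b = b * swap u₀ (b u₀) := by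
    refine Equiv.ext fun p => ?_
    simp only [Perm.mul_apply]
    by_cases h1 : p = u₀
    · rw [h1]; simp [hu2]
    by_cases h2 : p = b u₀
    · rw [h2, hu2]; simp
    · have h3 : b p ≠ u₀ := fun h => h2 (b.injective (h.trans hu2.symm))
      have h4 : b p ≠ b u₀ := fun h => h1 (b.injective h)
      rw [swap_apply_of_ne_of_ne h3 h4, swap_apply_of_ne_of_ne h1 h2]
  by_cases hz : b w₀ = w₀
  · obtain ⟨g₀, hg₀⟩ := exists_perm_map [(u₀, u), (b u₀, x), (w₀, y)]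
      (by simp [hu1.symm, (Ne.symm hw1), (Ne.symm hw2)]) (by simp [hux, huy, hxy])
    have g1 : g₀ u₀ = u := hg₀ (u₀, u) (by simp)
    have g2 : g₀ (b u₀) = x := hg₀ (b u₀, x) (by simp)
    have g3 : g₀ w₀ = y := hg₀ (w₀, y) (by simp)
    obtain ⟨g, hgA, hgb⟩ := parity_fix b _ g₀ hσ hcomm
    refine moveI b c g hgA u x y hux huy hxy hcx hcu ?_ ?_ ?_
    · rw [hgb]; exact conj_app g₀ b rfl g1 g2
    · rw [hgb]; exact conj_app g₀ b hu2 g2 g1
    · rw [hgb, conj_app g₀ b hz g3 g3]; exact hcy.symm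
  · have z1 : b w₀ ≠ u₀ := fun h => hw2 (b.injective (h.trans hu2.symm))
    have z2 : b w₀ ≠ b u₀ := fun h => hw1 (b.injective h)
    obtain ⟨z, hz'⟩ := exists_avoid ({x, y, u, c y} : Finset (Fin n))
      (lt_of_le_of_lt Finset.card_le_four (by omega))
    simp only [Finset.mem_insert, Finset.mem_singleton, not_or] at hz'
    obtain ⟨hzx, hzy, hzu, hzcy⟩ := hz'
    obtain ⟨g₀, hg₀⟩ := exists_perm_map [(u₀, u), (b u₀, x), (w₀, y), (b w₀, z)]
      (by simp [hu1.symm, (Ne.symm hw1), (Ne.symm hw2), (Ne.symm z1), (Ne.symm z2), Ne.symm hz])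
      (by simp [hux, huy, hxy, (Ne.symm hzu), (Ne.symm hzx), (Ne.symm hzy)])
    have g1 : g₀ u₀ = u := hg₀ (u₀, u) (by simp)
    have g2 : g₀ (b u₀) = x := hg₀ (b u₀, x) (by simp)
    have g3 : g₀ w₀ = y := hg₀ (w₀, y) (by simp)
    have g4 : g₀ (b w₀) = z := hg₀ (b w₀, z) (by simp)
    obtain ⟨g, hgA, hgb⟩ := parity_fix b _ g₀ hσ hcomm
    refine moveI b c g hgA u x y hux huy hxy hcx hcu ?_ ?_ ?_
    · rw [hgb]; exact conj_app g₀ b rfl g1 g2
    · rw [hgb]; exact conj_app g₀ b hu2 g2 g1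
    · rw [hgb, conj_app g₀ b rfl g3 g4]; exact hzcy

lemma caseL4 {n : ℕ} (hn : 5 ≤ n) (c b : Perm (Fin n)) (x : Fin n) (hx : c x ≠ x)
    (p : Fin n) (h1 : b p ≠ p) (h2 : b (b p) ≠ p) (h3 : b (b (b p)) ≠ p) : Concl n c b := by
  obtain ⟨y, hcx⟩ : ∃ y, c x = y := ⟨_, rfl⟩
  have hxy : x ≠ y := by rw [← hcx]; exact hx.symm
  obtain ⟨j, hj⟩ := exists_avoid ({x, y, c y} : Finset (Fin n))
    (lt_of_le_of_lt Finset.card_le_three (by omega))
  simp only [Finset.mem_insert, Finset.mem_singleton, not_or] at hj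
  obtain ⟨hjx, hjy, hjcy⟩ := hj
  have s3 : b p ≠ b (b p) := fun h => h1 (b.injective h).symm
  obtain ⟨g₀, hg₀⟩ := exists_perm_map [(p, y), (b p, j), (b (b p), x)]
    (by simp [h1.symm, h2.symm, s3]) (by simp [(Ne.symm hjy), hxy.symm, hjx])
  have g1 : g₀ p = y := hg₀ (p, y) (by simp)
  have g2 : g₀ (b p) = j := hg₀ (b p, j) (by simp)
  have g3 : g₀ (b (b p)) = x := hg₀ (b (b p), x) (by simp)
  obtain ⟨e, he⟩ := exists_avoid ({y, j, x} : Finset (Fin n))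
    (lt_of_le_of_lt Finset.card_le_three (by omega))
  obtain ⟨e', he'⟩ := exists_avoid ({y, j, x, e} : Finset (Fin n))
    (lt_of_le_of_lt Finset.card_le_four (by omega))
  simp only [Finset.mem_insert, Finset.mem_singleton, not_or] at he he'
  obtain ⟨g, hgA, hg⟩ := even_fix g₀ e e' (Ne.symm he'.2.2.2)
  have k1 : g p = y := by
    rw [hg p (by rw [g1]; exact (Ne.symm he.1)) (by rw [g1]; exact (Ne.symm he'.1))]; exact g1
  have k2 : g (b p) = j := by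
    rw [hg _ (by rw [g2]; exact (Ne.symm he.2.1)) (by rw [g2]; exact (Ne.symm he'.2.1))]; exact g2
  have k3 : g (b (b p)) = x := by
    rw [hg _ (by rw [g3]; exact (Ne.symm he.2.2)) (by rw [g3]; exact (Ne.symm he'.2.2.1))]; exact g3
  exact moveL4 b c g hgA j x y hjx hjy hxy hcx (fun h => hjcy h.symm)
    (conj_app g b rfl k1 k2) (conj_app g b rfl k2 k3) (conj_app_ne g b h3 k3 k1)

lemma caseIIIB {n : ℕ} (hn : 5 ≤ n) (c b : Perm (Fin n)) (x y : Fin n) (hcx : c x = y)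
    (hxy : x ≠ y) (hcy : c y ≠ y) (hI : ∀ u, b u ≠ u → b (b u) ≠ u)
    (i₀ j₀ m₀ : Fin n) (hj₀ : b i₀ = j₀) (hm₀ : b j₀ = m₀) (hmi : b m₀ = i₀)
    (d1 : i₀ ≠ j₀) (d2 : i₀ ≠ m₀) (d3 : j₀ ≠ m₀)
    (z₁ : Fin n) (z1 : z₁ ≠ i₀) (z2 : z₁ ≠ j₀) (z3 : z₁ ≠ m₀) (hz : b z₁ ≠ z₁) :
    Concl n c b := by
  have w1 : b z₁ ≠ i₀ := fun h => z3 (b.injective (h.trans hmi.symm))
  have w2 : b z₁ ≠ j₀ := fun h => z1 (b.injective (h.trans hj₀.symm))
  have w3 : b z₁ ≠ m₀ := fun h => z2 (b.injective (h.trans hm₀.symm))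
  have v1 : b (b z₁) ≠ i₀ := fun h => w3 (b.injective (h.trans hmi.symm))
  have v2 : b (b z₁) ≠ j₀ := fun h => w1 (b.injective (h.trans hj₀.symm))
  have v3 : b (b z₁) ≠ m₀ := fun h => w2 (b.injective (h.trans hm₀.symm))
  have v4 : b (b z₁) ≠ z₁ := hI z₁ hz
  have v5 : b (b z₁) ≠ b z₁ := fun h => hz (b.injective h)
  have h6 : 6 ≤ n := by
    have := List.Nodup.length_le_card (l := [i₀, j₀, m₀, z₁, b z₁, b (b z₁)])
      (by simp [d1, d2, d3, (Ne.symm z1), (Ne.symm z2), (Ne.symm z3), w1.symm, w2.symm, w3.symm, v1.symm,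
        v2.symm, v3.symm, hz.symm, v4.symm, v5.symm])
    simpa using this
  obtain ⟨i, hi⟩ := exists_avoid ({x, y, c⁻¹ x, c y, c (c y)} : Finset (Fin n))
    (lt_of_le_of_lt Finset.card_le_five (by omega))
  simp only [Finset.mem_insert, Finset.mem_singleton, not_or] at hi
  obtain ⟨hix, hiy, hix', hicy, hiccy⟩ := hi
  have hci : c i ≠ x := fun h => hix' (by rw [← h]; simp)
  obtain ⟨m, hmx, hmy, hmi', hcm, hcym⟩ :
      ∃ m, m ≠ x ∧ m ≠ y ∧ m ≠ i ∧ c m ≠ i ∧ (c y = x ∨ c y = m) := by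
    by_cases h : c y = x
    · obtain ⟨m, hm⟩ := exists_avoid ({x, y, i, c⁻¹ i} : Finset (Fin n))
        (lt_of_le_of_lt Finset.card_le_four (by omega))
      simp only [Finset.mem_insert, Finset.mem_singleton, not_or] at hm
      exact ⟨m, hm.1, hm.2.1, hm.2.2.1, fun h' => hm.2.2.2 (by rw [← h']; simp), Or.inl h⟩
    · exact ⟨c y, h, hcy, fun h' => hicy h'.symm, fun h' => hiccy h'.symm, Or.inr rfl⟩
  obtain ⟨g₀, hg₀⟩ := exists_perm_map [(i₀, i), (j₀, x), (m₀, m), (z₁, y)]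
    (by simp [d1, d2, d3, (Ne.symm z1), (Ne.symm z2), (Ne.symm z3)])
    (by simp [hix, hiy, (Ne.symm hmi'), (Ne.symm hmx), hxy, hmy])
  have g1 : g₀ i₀ = i := hg₀ (i₀, i) (by simp)
  have g2 : g₀ j₀ = x := hg₀ (j₀, x) (by simp)
  have g3 : g₀ m₀ = m := hg₀ (m₀, m) (by simp)
  have g4 : g₀ z₁ = y := hg₀ (z₁, y) (by simp)
  obtain ⟨e, he⟩ := exists_avoid ({i, x, m, y} : Finset (Fin n))
    (lt_of_le_of_lt Finset.card_le_four (by omega))
  obtain ⟨e', he'⟩ := exists_avoid ({i, x, m, y, e} : Finset (Fin n))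
    (lt_of_le_of_lt Finset.card_le_five (by omega))
  simp only [Finset.mem_insert, Finset.mem_singleton, not_or] at he he'
  obtain ⟨g, hgA, hg⟩ := even_fix g₀ e e' (Ne.symm he'.2.2.2.2)
  have k1 : g i₀ = i := by
    rw [hg _ (by rw [g1]; exact (Ne.symm he.1)) (by rw [g1]; exact (Ne.symm he'.1))]; exact g1
  have k2 : g j₀ = x := by
    rw [hg _ (by rw [g2]; exact (Ne.symm he.2.1)) (by rw [g2]; exact (Ne.symm he'.2.1))]; exact g2
  have k3 : g m₀ = m := by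
    rw [hg _ (by rw [g3]; exact (Ne.symm he.2.2.1)) (by rw [g3]; exact (Ne.symm he'.2.2.1))]; exact g3
  have k4 : g z₁ = y := by
    rw [hg _ (by rw [g4]; exact (Ne.symm he.2.2.2)) (by rw [g4]; exact (Ne.symm he'.2.2.2.1))]; exact g4
  refine moveIII b c g hgA i x y m hix hiy hxy hmy hcx hci hcm (conj_app g b hj₀ k1 k2)
    (conj_app g b hm₀ k2 k3) (conj_app g b hmi k3 k1) ?_
  rw [conj_app g b rfl k4 rfl]
  rcases hcym with h | h
  · rw [h, ← k2]; exact fun h' => w2 (g.injective h')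
  · rw [h, ← k3]; exact fun h' => w3 (g.injective h')

lemma caseIII {n : ℕ} (hn : 5 ≤ n) (c b : Perm (Fin n)) (x : Fin n) (hx : c x ≠ x)
    (hI : ∀ u, b u ≠ u → b (b u) ≠ u) (hL : ∀ p, b p ≠ p → b (b (b p)) = p)
    (i₀ : Fin n) (hi₀ : b i₀ ≠ i₀) : Concl n c b := by
  obtain ⟨y, hcx⟩ : ∃ y, c x = y := ⟨_, rfl⟩
  have hxy : x ≠ y := by rw [← hcx]; exact hx.symm
  have hcy : c y ≠ y := by rw [← hcx]; exact fun h => hx (c.injective h)
  obtain ⟨j₀, hj₀⟩ : ∃ j₀, b i₀ = j₀ := ⟨_, rfl⟩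
  obtain ⟨m₀, hm₀⟩ : ∃ m₀, b j₀ = m₀ := ⟨_, rfl⟩
  have hmi : b m₀ = i₀ := by rw [← hm₀, ← hj₀]; exact hL i₀ hi₀
  have d1 : i₀ ≠ j₀ := by rw [← hj₀]; exact hi₀.symm
  have d2 : i₀ ≠ m₀ := by rw [← hm₀, ← hj₀]; exact (hI i₀ hi₀).symm
  have d3 : j₀ ≠ m₀ := by
    rw [← hm₀]; intro h; exact d1 (b.injective (hj₀.trans h))
  obtain ⟨z₀, hz₀⟩ := exists_avoid ({i₀, j₀, m₀} : Finset (Fin n))
    (lt_of_le_of_lt Finset.card_le_three (by omega))
  simp only [Finset.mem_insert, Finset.mem_singleton, not_or] at hz₀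
  obtain ⟨z1, z2, z3⟩ := hz₀
  obtain ⟨e₀, he₀⟩ := exists_avoid ({i₀, j₀, m₀, z₀} : Finset (Fin n))
    (lt_of_le_of_lt Finset.card_le_four (by omega))
  simp only [Finset.mem_insert, Finset.mem_singleton, not_or] at he₀
  obtain ⟨e1, e2, e3, e4⟩ := he₀
  by_cases hz : b z₀ ≠ z₀
  · exact caseIIIB hn c b x y hcx hxy hcy hI i₀ j₀ m₀ hj₀ hm₀ hmi d1 d2 d3 z₀ z1 z2 z3 hz
  by_cases he : b e₀ ≠ e₀
  · exact caseIIIB hn c b x y hcx hxy hcy hI i₀ j₀ m₀ hj₀ hm₀ hmi d1 d2 d3 e₀ e1 e2 e3 he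
  push_neg at hz he
  have hσ : Perm.sign (swap z₀ e₀) = -1 := sign_swap (Ne.symm e4)
  have hcomm : swap z₀ e₀ * b = b * swap z₀ e₀ := by
    refine Equiv.ext fun p => ?_
    simp only [Perm.mul_apply]
    by_cases h1 : p = z₀
    · rw [h1]; simp [hz, he]
    by_cases h2 : p = e₀
    · rw [h2]; simp [hz, he]
    · have h3 : b p ≠ z₀ := fun h => h1 (b.injective (h.trans hz.symm))
      have h4 : b p ≠ e₀ := fun h => h2 (b.injective (h.trans he.symm))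
      rw [swap_apply_of_ne_of_ne h3 h4, swap_apply_of_ne_of_ne h1 h2]
  obtain ⟨i, hi⟩ := exists_avoid ({x, y, c⁻¹ x} : Finset (Fin n))
    (lt_of_le_of_lt Finset.card_le_three (by omega))
  simp only [Finset.mem_insert, Finset.mem_singleton, not_or] at hi
  obtain ⟨hix, hiy, hix'⟩ := hi
  have hci : c i ≠ x := fun h => hix' (by rw [← h]; simp)
  obtain ⟨m, hm⟩ := exists_avoid ({x, y, i, c⁻¹ i} : Finset (Fin n))
    (lt_of_le_of_lt Finset.card_le_four (by omega))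
  simp only [Finset.mem_insert, Finset.mem_singleton, not_or] at hm
  obtain ⟨hmx, hmy, hmi', hmi''⟩ := hm
  have hcm : c m ≠ i := fun h => hmi'' (by rw [← h]; simp)
  obtain ⟨g₀, hg₀⟩ := exists_perm_map [(i₀, i), (j₀, x), (m₀, m), (z₀, y)]
    (by simp [d1, d2, d3, (Ne.symm z1), (Ne.symm z2), (Ne.symm z3)])
    (by simp [hix, hiy, (Ne.symm hmi'), (Ne.symm hmx), hxy, hmy])
  have g1 : g₀ i₀ = i := hg₀ (i₀, i) (by simp)
  have g2 : g₀ j₀ = x := hg₀ (j₀, x) (by simp)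
  have g3 : g₀ m₀ = m := hg₀ (m₀, m) (by simp)
  have g4 : g₀ z₀ = y := hg₀ (z₀, y) (by simp)
  obtain ⟨g, hgA, hgb⟩ := parity_fix b _ g₀ hσ hcomm
  refine moveIII b c g hgA i x y m hix hiy hxy hmy hcx hci hcm ?_ ?_ ?_ ?_
  · rw [hgb]; exact conj_app g₀ b hj₀ g1 g2
  · rw [hgb]; exact conj_app g₀ b hm₀ g2 g3
  · rw [hgb]; exact conj_app g₀ b hmi g3 g1
  · rw [hgb, conj_app g₀ b hz g4 g4]; exact hcy.symm

theorem main {n : ℕ} (hn : 5 ≤ n) (c b : Perm (Fin n)) (hc : c ≠ 1) (hb : b ≠ 1) :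
    Concl n c b := by
  obtain ⟨x, hx⟩ : ∃ x, c x ≠ x := by
    by_contra h; push_neg at h; exact hc (Equiv.ext fun x => by simpa using h x)
  by_cases hI : ∃ u₀, b u₀ ≠ u₀ ∧ b (b u₀) = u₀
  · obtain ⟨u₀, h1, h2⟩ := hI; exact caseI hn c b x hx u₀ h1 h2
  by_cases hL : ∃ p, b p ≠ p ∧ b (b p) ≠ p ∧ b (b (b p)) ≠ p
  · obtain ⟨p, h1, h2, h3⟩ := hL; exact caseL4 hn c b x hx p h1 h2 h3
  push_neg at hI hL
  obtain ⟨i₀, hi₀⟩ : ∃ i, b i ≠ i := by
    by_contra h; push_neg at h; exact hb (Equiv.ext fun x => by simpa using h x)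
  exact caseIII hn c b x hx hI (fun p hp => hL p hp (hI p hp)) i₀ hi₀

end Cfsg.Agent.Lib.helper29.FixProd
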