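import Mathlib

/-!
# Abstract lemmas on abelian normal subgroups (seat helper29)

Norm identities used for the Hughes--Thompson--Kegel theorem.
-/

set_option autoImplicit false

namespace Cfsg.Agent.Lib.helper29

open scoped IsMulCommutative

universe u

/-- Reindexing a product over `range p` by multiplication with a unit mod `p`. -/
theorem prod_range_mul_mod {M : Type*} [CommMonoid M] (p : ℕ) (hp : p.Prime) (i : ℕ) (hi0 : 0 < i)
    (hip : i < p) (f : ℕ → M) :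
    ∏ j ∈ Finset.range p, f ((j * i) % p) = ∏ j ∈ Finset.range p, f j := by
  have hcop : Nat.gcd p i = 1 :=
    (Nat.Prime.coprime_iff_not_dvd hp).mpr (Nat.not_dvd_of_pos_of_lt hi0 hip)
  have hmaps : Set.MapsTo (fun j => (j * i) % p) (Finset.range p : Set ℕ) (Finset.range p) := by
    intro j _
    simp only [Finset.coe_range, Set.mem_Iio]
    exact Nat.mod_lt _ hp.pos
  have hinj : Set.InjOn (fun j => (j * i) % p) (Finset.range p : Set ℕ) := by
    intro j hj j' hj' h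
    simp only [Finset.coe_range, Set.mem_Iio] at hj hj'
    have h1 : j * i ≡ j' * i [MOD p] := h
    have h2 : j ≡ j' [MOD p] := Nat.ModEq.cancel_right_of_coprime hcop h1
    exact Nat.ModEq.eq_of_lt_of_lt h2 hj hj'
  have hsurj : Set.SurjOn (fun j => (j * i) % p) (Finset.range p : Set ℕ) (Finset.range p) :=
    Finset.surjOn_of_injOn_of_card_le _ hmaps hinj le_rfl
  exact Finset.prod_nbij (fun j => (j * i) % p) (fun j hj => hmaps hj) hinj hsurj (fun _ _ => rfl)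

/-- `(a y)^n = (∏_{i<n} y^i a y^{-i}) y^n` for `a` in an abelian normal subgroup. -/
theorem mul_pow_eq_prod {Γ : Type*} [Group Γ] (A : Subgroup Γ) [A.Normal] [IsMulCommutative A]
    (y : Γ) (a : A) (n : ℕ) :
    ((a : Γ) * y) ^ n =
      ((∏ i ∈ Finset.range n, (MulAut.conjNormal (y ^ i) : MulAut A) a : A) : Γ) * y ^ n := by
  induction n with
  | zero => simp
  | succ n ih =>
    rw [pow_succ, ih, Finset.prod_range_succ, Subgroup.coe_mul, MulAut.conjNormal_apply, pow_succ]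
    group

/-- The basic norm identity. -/
theorem r1core {Γ : Type*} [Group Γ] (A : Subgroup Γ) [A.Normal]
    (hA : ∀ a ∈ A, ∀ b ∈ A, a * b = b * a) (p : ℕ) (hp : p.Prime) (x z : Γ)
    (h1 : ∀ j : ℕ, ∀ a ∈ A, (a * (x * z ^ j)) ^ p = (x * z ^ j) ^ p)
    (hz : ∀ a ∈ A, z ^ p * a = a * z ^ p)
    (hxz : ∀ a ∈ A, (x * z) * a * (x * z)⁻¹ = (z * x) * a * (z * x)⁻¹) :
    ∀ a ∈ A, (a * z) ^ p = a ^ p * z ^ p := by
  haveI : IsMulCommutative A := ⟨⟨fun a b => Subtype.ext (hA a a.2 b b.2)⟩⟩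
  set ρ : Γ →* MulAut A := MulAut.conjNormal with hρ
  have hF2 : ∀ (j : ℕ) (a : A), ∏ i ∈ Finset.range p, ρ ((x * z ^ j) ^ i) a = 1 := by
    intro j a
    have h := mul_pow_eq_prod A (x * z ^ j) a p
    rw [h1 j a a.2] at h
    have h2 : ((∏ i ∈ Finset.range p, ρ ((x * z ^ j) ^ i) a : A) : Γ) = 1 := by
      have h3 := congrArg (fun t => t * ((x * z ^ j) ^ p)⁻¹) h
      simp only [mul_inv_cancel, mul_inv_cancel_right] at h3
      exact h3.symm
    exact Subtype.ext h2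
  have hF3 : Commute (ρ x) (ρ z) := by
    show ρ x * ρ z = ρ z * ρ x
    rw [← map_mul, ← map_mul]
    ext a
    rw [hρ, MulAut.conjNormal_apply, MulAut.conjNormal_apply]
    exact hxz a a.2
  have hF4 : ρ z ^ p = 1 := by
    rw [← map_pow]
    ext a
    rw [hρ, MulAut.conjNormal_apply]
    simp only [MulAut.one_apply]
    rw [hz a a.2]; group
  intro a ha
  set a' : A := ⟨a, ha⟩ with ha'
  set w : A := ∏ j ∈ Finset.range p, ρ (z ^ j) a' with hw
  have hF5 : ∏ j ∈ Finset.range p, ∏ i ∈ Finset.range p, ρ ((x * z ^ j) ^ i) a' =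
      a' ^ p * ∏ i ∈ Finset.Ico 1 p, ρ (x ^ i) w := by
    rw [Finset.prod_comm, Finset.range_eq_Ico, Finset.prod_eq_prod_Ico_succ_bot hp.pos]
    congr 1
    · simp
    · apply Finset.prod_congr rfl
      intro i hi
      rw [Finset.mem_Ico] at hi
      rw [hw, map_prod]
      rw [← Finset.range_eq_Ico]
      rw [← prod_range_mul_mod p hp i (by omega) hi.2 (fun j => ρ (x ^ i) (ρ (z ^ j) a'))]
      apply Finset.prod_congr rfl
      intro j _
      have e1 : ρ ((x * z ^ j) ^ i) = ρ (x ^ i) * ρ (z ^ (j * i % p)) := by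
        rw [map_pow, map_mul, map_pow, (hF3.pow_right j).mul_pow, ← pow_mul, map_pow, map_pow,
          pow_eq_pow_mod (j * i) hF4]
      rw [e1]; rfl
  have h6 : (1 : A) = a' ^ p * ∏ i ∈ Finset.Ico 1 p, ρ (x ^ i) w := by
    rw [← hF5]
    symm
    apply Finset.prod_eq_one
    intro j _
    exact hF2 j a'
  have h7 : w * ∏ i ∈ Finset.Ico 1 p, ρ (x ^ i) w = 1 := by
    have h := hF2 0 w
    rw [Finset.range_eq_Ico, Finset.prod_eq_prod_Ico_succ_bot hp.pos] at h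
    simpa using h
  have h8 : w = a' ^ p := by
    have h9 : ∏ i ∈ Finset.Ico 1 p, ρ (x ^ i) w = w⁻¹ := eq_inv_of_mul_eq_one_right h7
    rw [h9] at h6
    have h := congrArg (fun t => t * w) h6
    simp only [one_mul, inv_mul_cancel_right] at h
    exact h
  have h10 := mul_pow_eq_prod A z a' p
  rw [← hρ, ← hw, h8] at h10
  rw [h10]; rfl

/-- Norm argument for a `p'`-subgroup `S` normalised by `τ`: if the "norms" of all conjugates
`y τ y⁻¹` (`y ∈ S`) vanish on the abelian normal subgroup `A` and `τ` acts without fixed points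
on `S`, then `S` centralises `A` (when the orders are coprime). -/
theorem r2 {Γ : Type*} [Group Γ] [Finite Γ] (A : Subgroup Γ) [A.Normal]
    (hA : ∀ a ∈ A, ∀ b ∈ A, a * b = b * a) (p : ℕ) (hp : p.Prime) (S : Subgroup Γ) (τ : Γ)
    (hτS : ∀ y ∈ S, τ * y * τ⁻¹ ∈ S)
    (hfix : ∀ i : ℕ, 0 < i → i < p → ∀ y ∈ S, τ ^ i * y = y * τ ^ i → y = 1)
    (hN : ∀ y ∈ S, ∀ a ∈ A, (a * (y * τ * y⁻¹)) ^ p = (y * τ * y⁻¹) ^ p)
    (hcop : (Nat.card S).Coprime (Nat.card A)) :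
    ∀ y ∈ S, ∀ a ∈ A, y * a = a * y := by
  haveI : IsMulCommutative A := ⟨⟨fun a b => Subtype.ext (hA a a.2 b b.2)⟩⟩
  set ρ : Γ →* MulAut A := MulAut.conjNormal with hρ
  cases nonempty_fintype S
  have hτSi : ∀ i : ℕ, ∀ y ∈ S, τ ^ i * y * (τ ^ i)⁻¹ ∈ S := by
    intro i
    induction i with
    | zero => intro y hy; simpa using hy
    | succ i ih =>
      intro y hy
      have h := ih _ (hτS y hy)
      have e : τ ^ (i + 1) * y * (τ ^ (i + 1))⁻¹ = τ ^ i * (τ * y * τ⁻¹) * (τ ^ i)⁻¹ := by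
        rw [pow_succ]; group
      rw [e]; exact h
  -- the norm of each conjugate vanishes
  have hF2 : ∀ (y : S) (v : A), ∏ i ∈ Finset.range p, ρ (((y : Γ) * τ * (y : Γ)⁻¹) ^ i) v = 1 := by
    intro y v
    have h := mul_pow_eq_prod A ((y : Γ) * τ * (y : Γ)⁻¹) v p
    rw [hN y y.2 v v.2] at h
    have h2 : ((∏ i ∈ Finset.range p, ρ (((y : Γ) * τ * (y : Γ)⁻¹) ^ i) v : A) : Γ) = 1 := by
      have h3 := congrArg (fun t => t * (((y : Γ) * τ * (y : Γ)⁻¹) ^ p)⁻¹) h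
      simp only [mul_inv_cancel, mul_inv_cancel_right] at h3
      exact h3.symm
    exact Subtype.ext h2
  -- the twisted maps
  let β : ℕ → S → S := fun i y =>
    ⟨(y : Γ) * (τ ^ i * (y : Γ)⁻¹ * (τ ^ i)⁻¹), S.mul_mem y.2 (hτSi i _ (S.inv_mem y.2))⟩
  have hβ : ∀ i : ℕ, 0 < i → i < p → Function.Bijective (β i) := by
    intro i hi0 hip
    apply Finite.injective_iff_bijective.mp
    intro y y' h
    have h1 : (y : Γ) * (τ ^ i * (y : Γ)⁻¹ * (τ ^ i)⁻¹) =
        (y' : Γ) * (τ ^ i * (y' : Γ)⁻¹ * (τ ^ i)⁻¹) := congrArg Subtype.val h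
    have h2 : τ ^ i * ((y' : Γ)⁻¹ * (y : Γ)) = ((y' : Γ)⁻¹ * (y : Γ)) * τ ^ i := by
      have h3 : (y' : Γ)⁻¹ * (y : Γ) = τ ^ i * ((y' : Γ)⁻¹ * (y : Γ)) * (τ ^ i)⁻¹ := by
        calc (y' : Γ)⁻¹ * (y : Γ)
            = (y' : Γ)⁻¹ * ((y : Γ) * (τ ^ i * (y : Γ)⁻¹ * (τ ^ i)⁻¹)) *
                (τ ^ i * (y : Γ) * (τ ^ i)⁻¹) := by group
          _ = (y' : Γ)⁻¹ * ((y' : Γ) * (τ ^ i * (y' : Γ)⁻¹ * (τ ^ i)⁻¹)) *
                (τ ^ i * (y : Γ) * (τ ^ i)⁻¹) := by rw [h1]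
          _ = τ ^ i * ((y' : Γ)⁻¹ * (y : Γ)) * (τ ^ i)⁻¹ := by group
      have h4 := congrArg (fun t => t * τ ^ i) h3
      simp only [inv_mul_cancel_right] at h4
      exact h4.symm
    have h5 := hfix i hi0 hip _ (S.mul_mem (S.inv_mem y'.2) y.2) h2
    exact Subtype.ext (by
      have h6 : (y : Γ) = (y' : Γ) * ((y' : Γ)⁻¹ * (y : Γ)) := by group
      rw [h6, h5, mul_one])
  -- the trace over S
  let sS : A → A := fun w => ∏ u : S, ρ (u : Γ) w
  have hsS : ∀ (u' : S) (w : A), ρ (u' : Γ) (sS w) = sS w := by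
    intro u' w
    show ρ (u' : Γ) (∏ u : S, ρ (u : Γ) w) = ∏ u : S, ρ (u : Γ) w
    rw [map_prod]
    rw [← Equiv.prod_comp (Equiv.mulLeft u') (fun u : S => ρ (u : Γ) w)]
    apply Finset.prod_congr rfl
    intro u _
    simp only [Equiv.coe_mulLeft, Subgroup.coe_mul, map_mul, MulAut.mul_apply]
  have hmain : ∀ v : A, (1 : A) = v ^ Fintype.card S *
      ∏ i ∈ Finset.Ico 1 p, sS (ρ (τ ^ i) v) := by
    intro v
    have e0 : (1 : A) = ∏ y : S, ∏ i ∈ Finset.range p, ρ (((y : Γ) * τ * (y : Γ)⁻¹) ^ i) v := by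
      symm
      apply Finset.prod_eq_one
      intro y _
      exact hF2 y v
    rw [e0, Finset.prod_comm, Finset.range_eq_Ico, Finset.prod_eq_prod_Ico_succ_bot hp.pos]
    congr 1
    · simp
    · apply Finset.prod_congr rfl
      intro i hi
      rw [Finset.mem_Ico] at hi
      show ∏ y : S, ρ (((y : Γ) * τ * (y : Γ)⁻¹) ^ i) v = ∏ u : S, ρ (u : Γ) (ρ (τ ^ i) v)
      rw [← (hβ i (by omega) hi.2).prod_comp (fun u : S => ρ (u : Γ) (ρ (τ ^ i) v))]
      apply Finset.prod_congr rfl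
      intro y _
      rw [← MulAut.mul_apply, ← map_mul]
      congr 2
      show ((y : Γ) * τ * (y : Γ)⁻¹) ^ i = (y : Γ) * (τ ^ i * (y : Γ)⁻¹ * (τ ^ i)⁻¹) * τ ^ i
      rw [conj_pow]; group
  have hfixed : ∀ (u : S) (v : A), ρ (u : Γ) (v ^ Fintype.card S) = v ^ Fintype.card S := by
    intro u v
    have h1 := hmain v
    have h2 : v ^ Fintype.card S = (∏ i ∈ Finset.Ico 1 p, sS (ρ (τ ^ i) v))⁻¹ :=
      eq_inv_of_mul_eq_one_left h1.symm
    rw [h2, map_inv, map_prod]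
    congr 1
    apply Finset.prod_congr rfl
    intro i _
    exact hsS u _
  intro y hy a ha
  set v : A := ⟨a, ha⟩ with hv
  set b : A := ρ y v * v⁻¹ with hb
  have hb1 : b ^ Fintype.card S = 1 := by
    rw [hb, mul_pow, ← map_pow, hfixed ⟨y, hy⟩ v, inv_pow, mul_inv_cancel]
  have hb2 : b ^ Nat.card A = 1 := pow_card_eq_one'
  have hb3 : b = 1 := by
    have h := pow_gcd_eq_one.mpr ⟨hb1, hb2⟩
    rw [← Nat.card_eq_fintype_card] at h
    have hc : Nat.gcd (Nat.card S) (Nat.card A) = 1 := hcop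
    rw [hc, pow_one] at h
    exact h
  have h4 : ρ y v = v := by
    rw [hb] at hb3
    exact mul_inv_eq_one.mp hb3
  have h5 : y * a * y⁻¹ = a := by
    have h6 := congrArg Subtype.val h4
    rw [hρ, MulAut.conjNormal_apply] at h6
    exact h6
  have h7 := congrArg (fun t => t * y) h5
  simp only [inv_mul_cancel_right] at h7
  exact h7

end Cfsg.Agent.Lib.helper29
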