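import Mathlib
import Cfsg.Agent.Lib.helper29.HTKa
import Cfsg.Agent.Lib.helper1.ThompsonJ
import Cfsg.Agent.Lib.helper3.SchmidtC
import Cfsg.Agent.Lib.helper7.Fitting
import Cfsg.Agent.Lib.lead.PNil
import Cfsg.Agent.S0072

/-!
# The Hughes--Thompson--Kegel theorem (seat helper29)

If `H` is a proper normal subgroup of the finite group `Γ` such that every element outside `H`
has order dividing the prime `p`, then `H` is nilpotent, and `H` has index `p` unless `Γ` is a
`p`-group.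
-/

set_option autoImplicit false

namespace Cfsg.Agent.Lib.helper29

open Subgroup
open scoped Pointwise

universe u

/-- The Hughes--Thompson hypothesis: `H` is a proper normal subgroup and all elements
outside `H` have order dividing `p`. -/
def HT (p : ℕ) (Γ : Type u) [Group Γ] (H : Subgroup Γ) : Prop :=
  H.Normal ∧ H ≠ ⊤ ∧ ∀ g : Γ, g ∉ H → g ^ p = 1

theorem HT.sub {p : ℕ} {Γ : Type u} [Group Γ] {H : Subgroup Γ} (h : HT p Γ H) (L : Subgroup Γ)
    (hL : ¬ L ≤ H) : HT p L (H.subgroupOf L) := by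
  haveI := h.1
  refine ⟨inferInstance, ?_, ?_⟩
  · rw [Ne, Subgroup.subgroupOf_eq_top]; exact hL
  · intro g hg
    rw [Subgroup.mem_subgroupOf] at hg
    apply Subtype.ext
    rw [Subgroup.coe_pow]
    exact h.2.2 _ hg

theorem HT.quot {p : ℕ} {Γ : Type u} [Group Γ] {H : Subgroup Γ} (h : HT p Γ H) (N : Subgroup Γ)
    [N.Normal] (hN : N ≤ H) : HT p (Γ ⧸ N) (H.map (QuotientGroup.mk' N)) := by
  haveI := h.1
  refine ⟨Subgroup.Normal.map h.1 _ (QuotientGroup.mk'_surjective N), ?_, ?_⟩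
  · intro htop
    apply h.2.1
    rw [eq_top_iff]
    intro g _
    have hg : QuotientGroup.mk' N g ∈ H.map (QuotientGroup.mk' N) := by rw [htop]; trivial
    obtain ⟨h', hh', heq⟩ := hg
    have h1 : h'⁻¹ * g ∈ N := by
      rw [← QuotientGroup.eq]
      exact heq
    have h2 := H.mul_mem hh' (hN h1)
    simpa using h2
  · intro g hg
    obtain ⟨g, rfl⟩ := QuotientGroup.mk'_surjective N g
    have h1 : g ∉ H := fun hgH => hg ⟨g, hgH, rfl⟩
    rw [← map_pow, h.2.2 g h1, map_one]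

/-- Nilpotency passes to groups embedded into `H ∩ L`. -/
theorem nilp_of_inj {Γ : Type u} [Group Γ] {M : Type*} [Group M] (H L : Subgroup Γ)
    (f : M →* Γ) (hf : Function.Injective f) (hL : ∀ m, f m ∈ L) (hH : ∀ m, f m ∈ H)
    (hn : Group.IsNilpotent (H.subgroupOf L)) : Group.IsNilpotent M := by
  haveI := hn
  let f' : M →* H.subgroupOf L :=
    { toFun := fun x => ⟨⟨f x, hL x⟩, by rw [Subgroup.mem_subgroupOf]; exact hH x⟩
      map_one' := by apply Subtype.ext; apply Subtype.ext; exact map_one f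
      map_mul' := fun a b => by apply Subtype.ext; apply Subtype.ext; exact map_mul f a b }
  have hf' : Function.Injective f' := by
    intro a b hab
    have h1 := congrArg (fun t : H.subgroupOf L => ((t : L) : Γ)) hab
    exact hf h1
  exact Subgroup.isNilpotent_of_ker_le_center f'
    (by rw [(MonoidHom.ker_eq_bot_iff f').mpr hf']; exact bot_le)

theorem nilp_of_sub {Γ : Type u} [Group Γ] (H L M : Subgroup Γ) (hML : M ≤ L) (hMH : M ≤ H)
    (hn : Group.IsNilpotent (H.subgroupOf L)) : Group.IsNilpotent M :=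
  nilp_of_inj H L M.subtype M.subtype_injective (fun m => hML m.2) (fun m => hMH m.2) hn

/-- A `p`-subgroup not contained in `H` acts on an abelian normal `p'`-subgroup `A ≤ H` with
its intersection with `H` acting trivially. -/
theorem a_ab {p : ℕ} (hp : p.Prime) {Γ : Type u} [Group Γ] [Finite Γ] {H : Subgroup Γ}
    (h : HT p Γ H) (A : Subgroup Γ) [hAn : A.Normal] (hA : ∀ a ∈ A, ∀ b ∈ A, a * b = b * a)
    (hAH : A ≤ H) (hAp : ∀ a ∈ A, a ^ p = 1 → a = 1) (P : Subgroup Γ) (hP : IsPGroup p P)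
    (hPH : ¬ P ≤ H) : ∀ d ∈ P ⊓ H, ∀ a ∈ A, d * a = a * d := by
  haveI := h.1
  haveI : Fact p.Prime := ⟨hp⟩
  obtain ⟨x, hxP, hxH⟩ := SetLike.not_le_iff_exists.mp hPH
  set C : Subgroup P := (Subgroup.centralizer (A : Set Γ)).subgroupOf P with hC
  haveI hCn : C.Normal := inferInstance
  set D : Subgroup P := H.subgroupOf P with hD
  haveI hDn : D.Normal := inferInstance
  by_contra hcon
  push_neg at hcon
  obtain ⟨d, hd, a, ha, hda⟩ := hcon
  have hPbar : IsPGroup p (P ⧸ C) := hP.to_quotient C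
  haveI : Group.IsNilpotent (P ⧸ C) := hPbar.isNilpotent
  set Dbar : Subgroup (P ⧸ C) := D.map (QuotientGroup.mk' C) with hDbar
  haveI : Dbar.Normal := Subgroup.Normal.map hDn _ (QuotientGroup.mk'_surjective C)
  have hDbar1 : Dbar ≠ ⊥ := by
    intro h0
    have h1 : QuotientGroup.mk' C ⟨d, hd.1⟩ ∈ Dbar :=
      ⟨⟨d, hd.1⟩, Subgroup.mem_subgroupOf.mpr hd.2, rfl⟩
    rw [h0, Subgroup.mem_bot, QuotientGroup.mk'_apply, QuotientGroup.eq_one_iff] at h1
    exact hda ((Subgroup.mem_centralizer_iff.mp (Subgroup.mem_subgroupOf.mp h1) a ha).symm)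
  have hY := Cfsg.Agent.Lib.helper7.nilpotent_normal_inf_center_ne_bot Dbar hDbar1
  set Y : Subgroup (P ⧸ C) := Dbar ⊓ Subgroup.center (P ⧸ C) with hYdef
  have hYp : IsPGroup p Y := hPbar.to_subgroup Y
  have hYcard : p ∣ Nat.card Y := by
    obtain ⟨n, hn⟩ := IsPGroup.iff_card.mp hYp
    have hn0 : n ≠ 0 := by
      rintro rfl
      rw [pow_zero] at hn
      exact hY (Subgroup.eq_bot_of_card_eq Y hn)
    rw [hn]; exact dvd_pow_self p hn0
  obtain ⟨yb, hyb⟩ := exists_prime_orderOf_dvd_card' p hYcard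
  obtain ⟨zP, hzD, hzeq⟩ := yb.2.1
  set z : Γ := (zP : Γ) with hzdef
  have hzH : z ∈ H := Subgroup.mem_subgroupOf.mp hzD
  have hzC : zP ∉ C := by
    intro hc
    have h1 : (yb : P ⧸ C) = 1 := by
      rw [← hzeq]; exact (QuotientGroup.eq_one_iff _).mpr hc
    have h2 : yb = 1 := Subtype.ext h1
    rw [h2, orderOf_one] at hyb
    exact hp.one_lt.ne' hyb.symm
  have hzp : zP ^ p ∈ C := by
    rw [← QuotientGroup.eq_one_iff, QuotientGroup.mk_pow]
    have h1 : (yb : P ⧸ C) ^ p = 1 := by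
      rw [← Subgroup.coe_pow, ← hyb, pow_orderOf_eq_one]; rfl
    rw [← hzeq] at h1
    exact h1
  have hcomm : (zP * ⟨x, hxP⟩)⁻¹ * (⟨x, hxP⟩ * zP) ∈ C := by
    rw [← QuotientGroup.eq]
    have hc := Subgroup.mem_center_iff.mp yb.2.2 (QuotientGroup.mk' C ⟨x, hxP⟩)
    rw [← hzeq] at hc
    rw [QuotientGroup.mk_mul, QuotientGroup.mk_mul]
    exact hc.symm
  have hz : ∀ a ∈ A, z ^ p * a = a * z ^ p := by
    intro a ha
    have h1 : z ^ p ∈ Subgroup.centralizer (A : Set Γ) := Subgroup.mem_subgroupOf.mp hzp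
    exact (Subgroup.mem_centralizer_iff.mp h1 a ha).symm
  have key := r1core A hA p hp x z (by
      intro j a ha
      have hxz : x * z ^ j ∉ H := fun hh => hxH (by
        have h1 := H.mul_mem hh (H.inv_mem (H.pow_mem hzH j))
        simpa using h1)
      rw [h.2.2 _ hxz, h.2.2 (a * (x * z ^ j)) (fun hh => hxz (by
        have h1 := H.mul_mem (H.inv_mem (hAH ha)) hh
        simpa using h1))]) hz (by
      intro a ha
      have h1 : (z * x)⁻¹ * (x * z) ∈ Subgroup.centralizer (A : Set Γ) :=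
        Subgroup.mem_subgroupOf.mp hcomm
      have h2 : a * ((z * x)⁻¹ * (x * z)) = ((z * x)⁻¹ * (x * z)) * a :=
        Subgroup.mem_centralizer_iff.mp h1 a ha
      calc (x * z) * a * (x * z)⁻¹
          = (z * x) * (((z * x)⁻¹ * (x * z)) * a) * (x * z)⁻¹ := by group
        _ = (z * x) * (a * ((z * x)⁻¹ * (x * z))) * (x * z)⁻¹ := by rw [h2]
        _ = (z * x) * a * (z * x)⁻¹ := by group)
  have hfin : ∀ a ∈ A, z * a = a * z := by
    intro a ha
    have k1 := key a ha
    have hzpa : z ^ p * a = a * z ^ p := hz a ha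
    have e1 : (z * a) ^ p = a⁻¹ * (a * z) ^ p * a := by
      have h1 := conj_pow (a := a⁻¹) (b := a * z) (i := p)
      rw [inv_inv] at h1
      rw [← h1]
      congr 1
      group
    have e2 : (z * a) ^ p = a ^ p * z ^ p := by
      rw [e1, k1]
      calc a⁻¹ * (a ^ p * z ^ p) * a = a⁻¹ * a ^ p * (z ^ p * a) := by group
        _ = a⁻¹ * a ^ p * (a * z ^ p) := by rw [hzpa]
        _ = a ^ p * z ^ p := by group
    have e3 : (z * a) ^ p = z * a ^ p * z⁻¹ * z ^ p := by
      have h1 := conj_pow (a := z) (b := a * z) (i := p)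
      have e : z * (a * z) * z⁻¹ = z * a := by group
      rw [e, k1] at h1
      rw [h1]
      group
    have e4 : z * a ^ p * z⁻¹ = a ^ p := by
      have h1 := e2.symm.trans e3
      exact (mul_right_cancel h1).symm
    have hb : z * a * z⁻¹ ∈ A := hAn.conj_mem a ha z
    have e5 : (z * a * z⁻¹ * a⁻¹) ^ p = 1 := by
      have hcm : Commute (z * a * z⁻¹) a⁻¹ := hA _ hb _ (A.inv_mem ha)
      rw [hcm.mul_pow, conj_pow, e4, inv_pow, mul_inv_cancel]
    have e6 := hAp _ (A.mul_mem hb (A.inv_mem ha)) e5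
    have e7 := congrArg (fun t => t * a * z) e6
    simp only [inv_mul_cancel_right, one_mul] at e7
    exact e7
  exact hzC (Subgroup.mem_subgroupOf.mpr
    (Subgroup.mem_centralizer_iff.mpr (fun a ha => (hfin a ha).symm)))

/-- Existence of an element normalising a Sylow subgroup of `H` outside `H` (Frattini). -/
theorem exists_normalizer_notMem {p : ℕ} {Γ : Type u} [Group Γ] [Finite Γ] {H : Subgroup Γ}
    (h : HT p Γ H) (s : ℕ) [Fact s.Prime] (S : Sylow s H) :
    ∃ τ, τ ∈ normalizer ((((S : Subgroup H).map H.subtype : Subgroup Γ)) : Set Γ) ∧ τ ∉ H := by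
  haveI := h.1
  have hfr := Sylow.normalizer_sup_eq_top S
  by_contra hcon
  push_neg at hcon
  apply h.2.1
  rw [← hfr]
  exact (sup_eq_right.mpr hcon).symm

/-- Step 2: a nontrivial normal `q`-subgroup of `Γ` inside `H` forces `H` to be nilpotent
(given the theorem for smaller groups). -/
theorem nilp_of_normal_pgroup {p : ℕ} (hp : p.Prime) {Γ : Type u} [Group Γ] [Finite Γ]
    {H : Subgroup Γ} (h : HT p Γ H)
    (IH : ∀ (Γ' : Type u) [Group Γ'] [Finite Γ'] (H' : Subgroup Γ'),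
      Nat.card Γ' < Nat.card Γ → HT p Γ' H' → Group.IsNilpotent H')
    (q : ℕ) [Fact q.Prime] (N : Subgroup Γ) [N.Normal] (hNH : N ≤ H) (hNq : IsPGroup q N)
    (hN1 : N ≠ ⊥) : Group.IsNilpotent H := by
  haveI := h.1
  set A : Subgroup Γ := N ⊓ centralizer (N : Set Γ) with hAdef
  haveI hAn : A.Normal := inferInstance
  have hA1 : A ≠ ⊥ := (Cfsg.Agent.Lib.helper1.ZZ q).ne_bot Γ N hNq hN1
  have hAq : IsPGroup q A := hNq.to_le inf_le_left
  have hAcomm : ∀ a ∈ A, ∀ b ∈ A, a * b = b * a := fun a ha b hb =>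
    (Subgroup.mem_centralizer_iff.mp ha.2 b hb.1).symm
  have hAH : A ≤ H := inf_le_left.trans hNH
  have hcent : ∀ (s : ℕ) [Fact s.Prime], s ≠ q → ∀ S : Sylow s H,
      ∀ y ∈ (S : Subgroup H).map H.subtype, ∀ a ∈ A, y * a = a * y := by
    intro s _ hsq S
    obtain ⟨S', hS'⟩ : ∃ S' : Subgroup Γ, S' = (S : Subgroup H).map H.subtype := ⟨_, rfl⟩
    rw [← hS']
    have hS'H : S' ≤ H := by rw [hS']; exact map_subtype_le _
    have hS's : IsPGroup s S' := by rw [hS']; exact S.2.map _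
    obtain ⟨τ, hτN, hτH⟩ := exists_normalizer_notMem h s S
    rw [← hS'] at hτN
    have hτp : τ ^ p = 1 := h.2.2 τ hτH
    have hτS : ∀ y ∈ S', τ * y * τ⁻¹ ∈ S' := fun y hy =>
      (Subgroup.mem_normalizer_iff.mp hτN y).mp hy
    have hcopSA : (Nat.card S').Coprime (Nat.card A) := by
      obtain ⟨a, ha⟩ := IsPGroup.iff_card.mp hS's
      obtain ⟨b, hb⟩ := IsPGroup.iff_card.mp hAq
      rw [ha, hb]
      exact Nat.Coprime.pow _ _ ((Nat.coprime_primes Fact.out Fact.out).mpr hsq)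
    by_cases hsp : s = p
    · subst hsp
      obtain ⟨P, hPdef⟩ : ∃ P : Subgroup Γ, P = zpowers τ ⊔ S' := ⟨_, rfl⟩
      have hPp : IsPGroup s P := by
        have hz : IsPGroup s (zpowers τ) := by
          intro g
          refine ⟨1, ?_⟩
          obtain ⟨g, hg⟩ := g
          obtain ⟨k, rfl⟩ := Subgroup.mem_zpowers_iff.mp hg
          apply Subtype.ext
          show (τ ^ k) ^ (s ^ 1) = 1
          rw [pow_one, ← zpow_natCast, ← zpow_mul, mul_comm, zpow_mul, zpow_natCast, hτp, one_zpow]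
        rw [hPdef]
        exact IsPGroup.to_sup_of_normal_right' hz hS's (by rw [zpowers_le]; exact hτN)
      have hPH : ¬ P ≤ H := fun hh => hτH (hh (by
        rw [hPdef]; exact le_sup_left (a := zpowers τ) (mem_zpowers τ)))
      have hAp : ∀ a ∈ A, a ^ s = 1 → a = 1 := by
        intro a ha hap
        obtain ⟨k, hk⟩ := hAq ⟨a, ha⟩
        have hk' : a ^ (q ^ k) = 1 := congrArg Subtype.val hk
        have h1 := pow_gcd_eq_one.mpr ⟨hap, hk'⟩
        have hg : Nat.gcd s (q ^ k) = 1 :=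
          Nat.Coprime.pow_right k ((Nat.coprime_primes Fact.out Fact.out).mpr hsq)
        rw [hg, pow_one] at h1
        exact h1
      intro y hy a ha
      exact a_ab hp h A hAcomm hAH hAp P hPp hPH y
        ⟨by rw [hPdef]; exact le_sup_right (a := zpowers τ) hy, hS'H hy⟩ a ha
    · apply r2 A hAcomm p hp S' τ hτS ?_ ?_ hcopSA
      · intro i hi0 hip y hy hcomm
        have hτi : τ ^ i ∉ H := by
          intro hh
          obtain ⟨m, -, hm⟩ := Nat.exists_mul_mod_eq_one_of_coprime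
            (Nat.Coprime.symm ((Nat.Prime.coprime_iff_not_dvd hp).mpr
              (Nat.not_dvd_of_pos_of_lt hi0 hip))) hp.one_lt
          have h1 : τ = (τ ^ i) ^ m := by
            rw [← pow_mul, pow_eq_pow_mod (i * m) hτp, hm, pow_one]
          exact hτH (h1 ▸ H.pow_mem hh m)
        have hy1 : y * τ ^ i ∉ H := fun hh => hτi (by
          have h1 := H.mul_mem (H.inv_mem (hS'H hy)) hh
          simpa using h1)
        have h1 := h.2.2 _ hy1
        have h2 : (τ ^ i) ^ p = 1 := h.2.2 _ hτi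
        have hc : Commute y (τ ^ i) := hcomm.symm
        rw [hc.mul_pow, h2, mul_one] at h1
        obtain ⟨k, hk⟩ := hS's ⟨y, hy⟩
        have hk' : y ^ (s ^ k) = 1 := congrArg Subtype.val hk
        have h3 := pow_gcd_eq_one.mpr ⟨h1, hk'⟩
        have hg : Nat.gcd p (s ^ k) = 1 :=
          Nat.Coprime.pow_right k ((Nat.coprime_primes hp Fact.out).mpr (Ne.symm hsp))
        rw [hg, pow_one] at h3
        exact h3
      · intro y hy a ha
        have hc : y * τ * y⁻¹ ∉ H := fun hh => hτH (by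
          have h1 := h.1.conj_mem _ hh y⁻¹
          simpa [mul_assoc] using h1)
        rw [h.2.2 _ hc, h.2.2 (a * (y * τ * y⁻¹)) (fun hh => hc (by
          have h1 := H.mul_mem (H.inv_mem (hAH ha)) hh
          simpa using h1))]
  -- a Sylow `q`-subgroup of `H` containing `A`
  have hAsub : IsPGroup q (A.subgroupOf H) := hAq.comap_subtype
  obtain ⟨Q, hQ⟩ := hAsub.exists_le_sylow
  obtain ⟨Q', hQ'⟩ : ∃ Q' : Subgroup Γ, Q' = (Q : Subgroup H).map H.subtype := ⟨_, rfl⟩
  have hAQ : A ≤ Q' := by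
    intro a ha
    rw [hQ']
    exact ⟨⟨a, hAH ha⟩, hQ (Subgroup.mem_subgroupOf.mpr ha), rfl⟩
  have hQ'q : IsPGroup q Q' := by rw [hQ']; exact Q.2.map _
  haveI : Group.IsNilpotent Q' := hQ'q.isNilpotent
  set B : Subgroup Q' := A.subgroupOf Q' with hB
  haveI : B.Normal := inferInstance
  have hB1 : B ≠ ⊥ := by
    intro h0
    apply hA1
    rw [eq_bot_iff]
    intro a ha
    have h1 : (⟨a, hAQ ha⟩ : Q') ∈ B := Subgroup.mem_subgroupOf.mpr ha
    rw [h0, Subgroup.mem_bot] at h1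
    exact Subgroup.mem_bot.mpr (congrArg Subtype.val h1)
  have hBc := Cfsg.Agent.Lib.helper7.nilpotent_normal_inf_center_ne_bot B hB1
  obtain ⟨c, hcmem, hc1⟩ : ∃ c : Q', c ∈ B ⊓ center Q' ∧ c ≠ 1 := by
    by_contra hcon
    push_neg at hcon
    exact hBc (eq_bot_iff.mpr (fun c hc => Subgroup.mem_bot.mpr (hcon c hc)))
  obtain ⟨z, hzdef⟩ : ∃ z : Γ, z = (c : Γ) := ⟨_, rfl⟩
  have hzA : z ∈ A := by rw [hzdef]; exact Subgroup.mem_subgroupOf.mp hcmem.1
  have hz1 : z ≠ 1 := fun hh => hc1 (Subtype.ext (by rw [← hzdef]; exact hh))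
  have hzQ : ∀ y ∈ Q', y * z = z * y := by
    intro y hy
    have h1 := Subgroup.mem_center_iff.mp hcmem.2 ⟨y, hy⟩
    rw [hzdef]
    exact congrArg Subtype.val h1
  obtain ⟨Z, hZdef⟩ : ∃ Z : Subgroup Γ, Z = H ⊓ centralizer (H : Set Γ) := ⟨_, rfl⟩
  have hzZ : z ∈ Z := by
    rw [hZdef]
    refine ⟨hAH hzA, ?_⟩
    have hK : (centralizer ({z} : Set Γ)).subgroupOf H = ⊤ := by
      apply Cfsg.Agent.Lib.helper3.eq_top_of_forall_sylow_le
      intro s _
      by_cases hsq : s = q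
      · subst hsq
        refine ⟨Q, ?_⟩
        intro y hy
        rw [Subgroup.mem_subgroupOf, Subgroup.mem_centralizer_iff]
        intro w hw
        rw [Set.mem_singleton_iff] at hw
        subst hw
        exact (hzQ y (by rw [hQ']; exact ⟨y, hy, rfl⟩)).symm
      · obtain ⟨S⟩ : Nonempty (Sylow s H) := inferInstance
        refine ⟨S, ?_⟩
        intro y hy
        rw [Subgroup.mem_subgroupOf, Subgroup.mem_centralizer_iff]
        intro w hw
        rw [Set.mem_singleton_iff] at hw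
        subst hw
        exact (hcent s hsq S y ⟨y, hy, rfl⟩ w hzA).symm
    show z ∈ centralizer (H : Set Γ)
    rw [Subgroup.mem_centralizer_iff]
    intro g hg
    have h1 : (⟨g, hg⟩ : H) ∈ (centralizer ({z} : Set Γ)).subgroupOf H := by rw [hK]; trivial
    rw [Subgroup.mem_subgroupOf, Subgroup.mem_centralizer_iff] at h1
    exact (h1 z rfl).symm
  haveI hZn : Z.Normal := by rw [hZdef]; infer_instance
  have hZH : Z ≤ H := by rw [hZdef]; exact inf_le_left
  have hZ1 : Z ≠ ⊥ := fun h0 => hz1 (by rw [h0] at hzZ; exact Subgroup.mem_bot.mp hzZ)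
  have hcard : Nat.card (Γ ⧸ Z) < Nat.card Γ := by
    rw [← Subgroup.card_mul_index Z]
    have h1 : 1 < Nat.card Z := (Subgroup.one_lt_card_iff_ne_bot Z).mpr hZ1
    have h2 : 0 < Z.index := Nat.pos_of_ne_zero Subgroup.index_ne_zero_of_finite
    show Z.index < _
    nlinarith
  have hnq := IH (Γ ⧸ Z) (H.map (QuotientGroup.mk' Z)) hcard (h.quot Z hZH)
  haveI := hnq
  let f : H →* H.map (QuotientGroup.mk' Z) := (QuotientGroup.mk' Z).subgroupMap H
  apply Subgroup.isNilpotent_of_ker_le_center f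
  intro x hx
  rw [MonoidHom.mem_ker] at hx
  have hx' : (((x : Γ) : Γ ⧸ Z)) = 1 := congrArg Subtype.val hx
  rw [QuotientGroup.eq_one_iff, hZdef] at hx'
  rw [Subgroup.mem_center_iff]
  intro g
  exact Subtype.ext (Subgroup.mem_centralizer_iff.mp hx'.2 g g.2)

/-- Elements normalising (the image of) `R ≤ H` normalise the image of `W(R)` for any functor
`W` compatible with injective homomorphisms. -/
theorem normalizer_le_normalizer_W {Γ : Type u} [Group Γ] [Finite Γ] (H : Subgroup Γ) [H.Normal]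
    {r : ℕ} (W : Cfsg.Agent.Lib.helper1.PFun.{u} r) (R : Subgroup H) :
    normalizer ((R.map H.subtype : Subgroup Γ) : Set Γ) ≤
      normalizer (((W.W H R).map H.subtype : Subgroup Γ) : Set Γ) := by
  intro g hg
  obtain ⟨f, hf⟩ : ∃ f : H →* H, f = (MulAut.conjNormal g : MulAut H).toMonoidHom := ⟨_, rfl⟩
  have hfinj : Function.Injective f := by
    rw [hf]; exact (MulAut.conjNormal g : MulAut H).injective
  have hfv : ∀ y : H, ((f y : H) : Γ) = g * (y : Γ) * g⁻¹ := by
    intro y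
    rw [hf]
    exact MulAut.conjNormal_apply g y
  have hRf : R.map f = R := by
    apply Subgroup.eq_of_le_of_card_ge
    · rintro _ ⟨y, hy, rfl⟩
      have h1 : g * (y : Γ) * g⁻¹ ∈ R.map H.subtype :=
        (Subgroup.mem_normalizer_iff.mp hg _).mp ⟨y, hy, rfl⟩
      obtain ⟨y2, hy2, hy2e⟩ := h1
      have h2 : f y = y2 := Subtype.ext (by rw [hfv]; exact hy2e.symm)
      rw [h2]; exact hy2
    · rw [Subgroup.card_map_of_injective hfinj]
  have hWf : (W.W H R).map f = W.W H R := by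
    rw [← W.map H H f R (Cfsg.Agent.Lib.helper1.inf_ker_eq_bot_of_injective _ hfinj _), hRf]
  rw [Subgroup.mem_normalizer_iff]
  intro x
  constructor
  · rintro ⟨y, hy, rfl⟩
    refine ⟨f y, ?_, ?_⟩
    · rw [← hWf]; exact ⟨y, hy, rfl⟩
    · exact hfv y
  · intro hx
    obtain ⟨y, hy, hye⟩ := hx
    rw [← hWf] at hy
    obtain ⟨y0, hy0, rfl⟩ := hy
    have h1 : (y0 : Γ) = x := by
      have e : ((f y0 : H) : Γ) = g * x * g⁻¹ := hye
      rw [hfv] at e
      exact mul_left_cancel (mul_right_cancel e)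
    rw [← h1]; exact ⟨y0, hy0, rfl⟩

/-- Step 1: a nontrivial `H` contains a nontrivial `q`-subgroup normal in `Γ`
(given the theorem for smaller groups). -/
theorem exists_normal_pgroup {p : ℕ} (hp : p.Prime) {Γ : Type u} [Group Γ] [Finite Γ]
    {H : Subgroup Γ} (h : HT p Γ H) (hH1 : H ≠ ⊥)
    (IH : ∀ (Γ' : Type u) [Group Γ'] [Finite Γ'] (H' : Subgroup Γ'),
      Nat.card Γ' < Nat.card Γ → HT p Γ' H' → Group.IsNilpotent H') :
    ∃ q : ℕ, q.Prime ∧ ∃ N : Subgroup Γ, N.Normal ∧ N ≤ H ∧ IsPGroup q N ∧ N ≠ ⊥ := by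
  haveI := h.1
  by_cases hodd : ∃ r : ℕ, r.Prime ∧ r ∣ Nat.card H ∧ r ≠ 2
  swap
  · refine ⟨2, Nat.prime_two, H, h.1, le_rfl, ?_, hH1⟩
    have hcard : Nat.card H = 2 ^ (Nat.card H).primeFactorsList.length :=
      Nat.eq_prime_pow_of_unique_prime_dvd Nat.card_pos.ne' (fun {d} hd hdvd => by
        by_contra hne
        exact hodd ⟨d, hd, hdvd, hne⟩)
    exact IsPGroup.of_card hcard
  obtain ⟨r, hr, hrdvd, hr2⟩ := hodd
  haveI : Fact r.Prime := ⟨hr⟩
  obtain ⟨R⟩ : Nonempty (Sylow r H) := inferInstance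
  have hR1 : (R : Subgroup H) ≠ ⊥ := R.ne_bot_of_dvd_card hrdvd
  obtain ⟨J, hJ⟩ : ∃ J : Subgroup H, J = (Cfsg.Agent.Lib.helper1.JJ r).W H (R : Subgroup H) :=
    ⟨_, rfl⟩
  obtain ⟨Zr, hZ⟩ : ∃ Zr : Subgroup H, Zr = (Cfsg.Agent.Lib.helper1.ZZ r).W H (R : Subgroup H) :=
    ⟨_, rfl⟩
  have hJ1 : J ≠ ⊥ := by rw [hJ]; exact (Cfsg.Agent.Lib.helper1.JJ r).ne_bot H _ R.2 hR1
  have hZ1 : Zr ≠ ⊥ := by rw [hZ]; exact (Cfsg.Agent.Lib.helper1.ZZ r).ne_bot H _ R.2 hR1
  have hJr : IsPGroup r J := by rw [hJ]; exact R.2.to_le ((Cfsg.Agent.Lib.helper1.JJ r).le H _)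
  have hZr : IsPGroup r Zr := by rw [hZ]; exact R.2.to_le ((Cfsg.Agent.Lib.helper1.ZZ r).le H _)
  obtain ⟨τ, hτN, hτH⟩ := exists_normalizer_notMem h r R
  have hτJ : τ ∈ normalizer ((J.map H.subtype : Subgroup Γ) : Set Γ) := by
    rw [hJ]; exact normalizer_le_normalizer_W H _ _ hτN
  have hτZ : τ ∈ normalizer ((Zr.map H.subtype : Subgroup Γ) : Set Γ) := by
    rw [hZ]; exact normalizer_le_normalizer_W H _ _ hτN
  by_cases hJn : normalizer ((J.map H.subtype : Subgroup Γ) : Set Γ) = ⊤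
  · refine ⟨r, hr, J.map H.subtype, Subgroup.normalizer_eq_top_iff.mp hJn, map_subtype_le _,
      hJr.map _, ?_⟩
    rw [Ne, Subgroup.map_eq_bot_iff_of_injective _ H.subtype_injective]; exact hJ1
  by_cases hZn : normalizer ((Zr.map H.subtype : Subgroup Γ) : Set Γ) = ⊤
  · refine ⟨r, hr, Zr.map H.subtype, Subgroup.normalizer_eq_top_iff.mp hZn, map_subtype_le _,
      hZr.map _, ?_⟩
    rw [Ne, Subgroup.map_eq_bot_iff_of_injective _ H.subtype_injective]; exact hZ1
  have hsubnil : ∀ L : Subgroup Γ, L ≠ ⊤ → ¬ L ≤ H → Group.IsNilpotent (H.subgroupOf L) := by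
    intro L hL1 hL2
    apply IH L (H.subgroupOf L) ?_ (h.sub L hL2)
    exact lt_of_le_of_ne (Subgroup.card_le_card_group L)
      (fun he => hL1 (Subgroup.eq_top_of_card_eq L he))
  have hn1 := hsubnil _ hJn (fun hh => hτH (hh hτJ))
  have hn2 := hsubnil _ hZn (fun hh => hτH (hh hτZ))
  have hnil1 : Group.IsNilpotent (normalizer (J : Set H)) := by
    apply nilp_of_inj H (normalizer ((J.map H.subtype : Subgroup Γ) : Set Γ))
      (H.subtype.comp (normalizer (J : Set H)).subtype)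
      (H.subtype_injective.comp (Subgroup.subtype_injective _)) ?_ (fun m => m.1.2) hn1
    intro m
    exact Subgroup.le_normalizer_map H.subtype ⟨m.1, m.2, rfl⟩
  have hnil2 : Group.IsNilpotent (centralizer (Zr : Set H)) := by
    apply nilp_of_inj H (normalizer ((Zr.map H.subtype : Subgroup Γ) : Set Γ))
      (H.subtype.comp (centralizer (Zr : Set H)).subtype)
      (H.subtype_injective.comp (Subgroup.subtype_injective _)) ?_ (fun m => m.1.2) hn2
    intro m
    exact Subgroup.le_normalizer_map H.subtype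
      ⟨m.1, Subgroup.centralizer_le_normalizer _ m.2, rfl⟩
  have hnpc : Cfsg.HasNormalPComplement r H := by
    apply Cfsg.Agent.Lib.helper1.thompson_npc r hr2 H R trivial
    refine ⟨?_, ?_⟩
    · rw [← hJ]; exact Cfsg.Agent.Lib.lead.hasNPC_of_nilpotent r hnil1
    · rw [← hZ]; exact Cfsg.Agent.Lib.lead.hasNPC_of_nilpotent r hnil2
  rw [Cfsg.Agent.S0072.hasNormalPComplement_iff] at hnpc
  obtain ⟨K, hKn, hKc, a, hKi⟩ := hnpc
  haveI := hKn
  haveI hKchar : K.Characteristic := by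
    rw [Subgroup.characteristic_iff_comap_eq]
    intro φ
    ext x
    rw [Subgroup.mem_comap, Cfsg.Agent.Lib.lead.mem_iff_coprime K hKc hKi,
      Cfsg.Agent.Lib.lead.mem_iff_coprime K hKc hKi]
    have e : orderOf (φ.toMonoidHom x) = orderOf x := φ.orderOf_eq x
    rw [e]
  obtain ⟨K', hK'⟩ : ∃ K' : Subgroup Γ, K' = K.map H.subtype := ⟨_, rfl⟩
  haveI hK'n : K'.Normal := by rw [hK']; infer_instance
  have hK'H : K' ≤ H := by rw [hK']; exact map_subtype_le _
  by_cases hK1 : K = ⊥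
  · refine ⟨r, hr, H, h.1, le_rfl, ?_, hH1⟩
    rw [hK1, Subgroup.index_bot] at hKi
    exact IsPGroup.of_card hKi
  have hKtop : K ≠ ⊤ := by
    intro htop
    rw [htop, Subgroup.card_top] at hKc
    exact (Nat.Prime.coprime_iff_not_dvd hr).mp hKc.symm hrdvd
  obtain ⟨L, hLdef⟩ : ∃ L : Subgroup Γ, L = K' ⊔ zpowers τ := ⟨_, rfl⟩
  have hLH : ¬ L ≤ H := fun hh => hτH (hh (by
    rw [hLdef]; exact le_sup_right (a := K') (mem_zpowers τ)))
  have hLtop : L ≠ ⊤ := by
    intro htop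
    apply hKtop
    rw [eq_top_iff]
    intro x _
    have hx : (x : Γ) ∈ L := by rw [htop]; trivial
    have hx2 : (x : Γ) ∈ (K' : Set Γ) * (zpowers τ : Set Γ) := by
      rw [← Subgroup.normal_mul, ← hLdef]; exact hx
    obtain ⟨k, hk, t, ht, hkt⟩ := Set.mem_mul.mp hx2
    obtain ⟨i, rfl⟩ := Subgroup.mem_zpowers_iff.mp ht
    have hti : τ ^ i ∈ H := by
      have h1 := H.mul_mem (H.inv_mem (hK'H hk)) x.2
      rw [← hkt] at h1
      simpa using h1
    have hti1 : τ ^ i = 1 := by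
      by_contra hne
      have hpi : ¬ ((p : ℤ) ∣ i) := by
        rintro ⟨m, rfl⟩
        apply hne
        rw [zpow_mul, zpow_natCast, h.2.2 τ hτH, one_zpow]
      have hcop : IsCoprime (p : ℤ) i :=
        (Nat.prime_iff_prime_int.mp hp).coprime_iff_not_dvd.mpr hpi
      obtain ⟨a, b, hab⟩ := hcop
      have h1 : τ = (τ ^ (p : ℤ)) ^ a * (τ ^ i) ^ b := by
        rw [← zpow_mul, ← zpow_mul, ← zpow_add, mul_comm (p : ℤ) a, mul_comm i b, hab, zpow_one]
      apply hτH
      rw [h1, zpow_natCast, h.2.2 τ hτH, one_zpow, one_mul]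
      exact H.zpow_mem hti b
    rw [hti1, mul_one] at hkt
    rw [hK'] at hk
    obtain ⟨k0, hk0, hk0e⟩ := hk
    have h2 : x = k0 := Subtype.ext (by rw [← hkt, ← hk0e]; rfl)
    rw [h2]; exact hk0
  have hnL := hsubnil L hLtop hLH
  have hnK' : Group.IsNilpotent K' :=
    nilp_of_sub H L K' (by rw [hLdef]; exact le_sup_left) hK'H hnL
  have hK'1 : K' ≠ ⊥ := by
    rw [hK', Ne, Subgroup.map_eq_bot_iff_of_injective _ H.subtype_injective]; exact hK1
  have hK'card : Nat.card K' ≠ 1 := fun hc => hK'1 (Subgroup.eq_bot_of_card_eq K' hc)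
  obtain ⟨q, hq, hqdvd⟩ := Nat.exists_prime_and_dvd hK'card
  haveI : Fact q.Prime := ⟨hq⟩
  obtain ⟨Q⟩ : Nonempty (Sylow q K') := inferInstance
  have hnormal : ∀ (q : ℕ) [Fact q.Prime] (S : Sylow q K'), (S : Subgroup K').Normal :=
    ((Group.isNilpotent_of_finite_tfae (G := K')).out 0 3).mp hnK'
  have hQn : (Q : Subgroup K').Normal := hnormal q Q
  haveI : (Q : Subgroup K').Characteristic := Q.characteristic_of_normal hQn
  refine ⟨q, hq, (Q : Subgroup K').map K'.subtype, inferInstance,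
    (map_subtype_le _).trans hK'H, Q.2.map _, ?_⟩
  rw [Ne, Subgroup.map_eq_bot_iff_of_injective _ K'.subtype_injective]
  exact Q.ne_bot_of_dvd_card hqdvd

theorem htk_nilp_aux (p : ℕ) (hp : p.Prime) : ∀ n : ℕ, ∀ (Γ : Type u) [Group Γ] [Finite Γ]
    (H : Subgroup Γ), Nat.card Γ = n → HT p Γ H → Group.IsNilpotent H := by
  intro n
  induction n using Nat.strong_induction_on with
  | _ n ih =>
    intro Γ _ _ H hn h
    subst hn
    have IH : ∀ (Γ' : Type u) [Group Γ'] [Finite Γ'] (H' : Subgroup Γ'),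
        Nat.card Γ' < Nat.card Γ → HT p Γ' H' → Group.IsNilpotent H' :=
      fun Γ' _ _ H' hlt h' => ih _ hlt Γ' H' rfl h'
    by_cases hH1 : H = ⊥
    · subst hH1; infer_instance
    obtain ⟨q, hq, N, hNn, hNH, hNq, hN1⟩ := exists_normal_pgroup hp h hH1 IH
    haveI : Fact q.Prime := ⟨hq⟩
    haveI := hNn
    exact nilp_of_normal_pgroup hp h IH q N hNH hNq hN1

/-- **Hughes--Thompson--Kegel**: under the Hughes--Thompson hypothesis, `H` is nilpotent. -/
theorem htk_nilp {p : ℕ} (hp : p.Prime) {Γ : Type u} [Group Γ] [Finite Γ] {H : Subgroup Γ}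
    (h : HT p Γ H) : Group.IsNilpotent H :=
  htk_nilp_aux p hp _ Γ H rfl h

/-- **Hughes--Thompson--Kegel**, index part: if `Γ` is not a `p`-group, then `H` has index `p`. -/
theorem htk_index {p : ℕ} (hp : p.Prime) {Γ : Type u} [Group Γ] [Finite Γ] {H : Subgroup Γ}
    (h : HT p Γ H) (hG : ¬ IsPGroup p Γ) : H.index = p := by
  haveI := h.1
  haveI : Fact p.Prime := ⟨hp⟩
  haveI hnil : Group.IsNilpotent H := htk_nilp hp h
  have hE : IsPGroup p (Γ ⧸ H) := by
    intro g
    obtain ⟨g, rfl⟩ := QuotientGroup.mk_surjective g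
    refine ⟨1, ?_⟩
    rw [pow_one, ← QuotientGroup.mk_pow]
    by_cases hg : g ∈ H
    · exact (QuotientGroup.eq_one_iff _).mpr (H.pow_mem hg p)
    · rw [h.2.2 g hg]; rfl
  haveI : Nontrivial (Γ ⧸ H) := by
    rw [← Finite.one_lt_card_iff_nontrivial]
    have h1 : H.index ≠ 1 := fun hh => h.2.1 (Subgroup.index_eq_one.mp hh)
    have h2 : H.index ≠ 0 := Subgroup.index_ne_zero_of_finite
    show 1 < H.index
    omega
  haveI := hE.center_nontrivial
  obtain ⟨zb, hzb⟩ := exists_ne (1 : Subgroup.center (Γ ⧸ H))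
  obtain ⟨z, hz⟩ := QuotientGroup.mk_surjective (zb : Γ ⧸ H)
  have hzH : z ∉ H := by
    intro hh
    apply hzb
    apply Subtype.ext
    rw [← hz]; exact (QuotientGroup.eq_one_iff _).mpr hh
  have hzp : z ^ p = 1 := h.2.2 z hzH
  have htop : ∀ xb : Γ ⧸ H, xb ∈ zpowers (zb : Γ ⧸ H) := by
    by_contra hcon
    push_neg at hcon
    obtain ⟨xb, hxb⟩ := hcon
    obtain ⟨x, rfl⟩ := QuotientGroup.mk_surjective xb
    have hxz : ∀ j : ℕ, x * z ^ j ∉ H := by
      intro j hh
      apply hxb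
      have h1 : ((x * z ^ j : Γ) : Γ ⧸ H) = 1 := (QuotientGroup.eq_one_iff _).mpr hh
      rw [QuotientGroup.mk_mul, QuotientGroup.mk_pow, hz] at h1
      have h2 : (x : Γ ⧸ H) = ((zb : Γ ⧸ H) ^ j)⁻¹ := eq_inv_of_mul_eq_one_left h1
      rw [h2]
      exact Subgroup.inv_mem _ (Subgroup.pow_mem _ (Subgroup.mem_zpowers _) j)
    obtain ⟨Z, hZdef⟩ : ∃ Z : Subgroup Γ, Z = H ⊓ centralizer (H : Set Γ) := ⟨_, rfl⟩
    haveI hZn : Z.Normal := by rw [hZdef]; infer_instance
    have hZcomm : ∀ a ∈ Z, ∀ b ∈ Z, a * b = b * a := by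
      intro a ha b hb
      rw [hZdef] at ha hb
      exact (Subgroup.mem_centralizer_iff.mp ha.2 b hb.1).symm
    have hZH : Z ≤ H := by rw [hZdef]; exact inf_le_left
    have hcomm : (z * x)⁻¹ * (x * z) ∈ H := by
      rw [← QuotientGroup.eq, QuotientGroup.mk_mul, QuotientGroup.mk_mul, hz]
      exact (Subgroup.mem_center_iff.mp zb.2 (x : Γ ⧸ H)).symm
    have key := r1core Z hZcomm p hp x z (by
        intro j a ha
        rw [h.2.2 _ (hxz j), h.2.2 (a * (x * z ^ j)) (fun hh => hxz j (by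
          have h1 := H.mul_mem (H.inv_mem (hZH ha)) hh
          simpa using h1))]) (by
        intro a ha; rw [hzp, one_mul, mul_one]) (by
        intro a ha
        rw [hZdef] at ha
        have h2 : ((z * x)⁻¹ * (x * z)) * a = a * ((z * x)⁻¹ * (x * z)) :=
          Subgroup.mem_centralizer_iff.mp ha.2 _ hcomm
        calc (x * z) * a * (x * z)⁻¹
            = (z * x) * (((z * x)⁻¹ * (x * z)) * a) * (x * z)⁻¹ := by group
          _ = (z * x) * (a * ((z * x)⁻¹ * (x * z))) * (x * z)⁻¹ := by rw [h2]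
          _ = (z * x) * a * (z * x)⁻¹ := by group)
    have hZp : ∀ a ∈ Z, a ^ p = 1 := by
      intro a ha
      have k1 := key a ha
      have haz : a * z ∉ H := fun hh => hzH (by
        have h1 := H.mul_mem (H.inv_mem (hZH ha)) hh
        simpa using h1)
      rw [h.2.2 _ haz, hzp, mul_one] at k1
      exact k1.symm
    have hHp : IsPGroup p H := by
      have hcard : Nat.card H = p ^ (Nat.card H).primeFactorsList.length :=
        Nat.eq_prime_pow_of_unique_prime_dvd Nat.card_pos.ne' (fun {q} hq hqdvd => by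
          by_contra hne
          haveI : Fact q.Prime := ⟨hq⟩
          obtain ⟨Q⟩ : Nonempty (Sylow q H) := inferInstance
          have hnormal : ∀ (q : ℕ) [Fact q.Prime] (S : Sylow q H), (S : Subgroup H).Normal :=
            ((Group.isNilpotent_of_finite_tfae (G := H)).out 0 3).mp hnil
          haveI hQn : (Q : Subgroup H).Normal := hnormal q Q
          have hQ1 : (Q : Subgroup H) ≠ ⊥ := Q.ne_bot_of_dvd_card hqdvd
          have hQc := Cfsg.Agent.Lib.helper7.nilpotent_normal_inf_center_ne_bot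
            (Q : Subgroup H) hQ1
          obtain ⟨c, hcmem, hc1⟩ : ∃ c : H, c ∈ (Q : Subgroup H) ⊓ center H ∧ c ≠ 1 := by
            by_contra hcon
            push_neg at hcon
            exact hQc (eq_bot_iff.mpr (fun c hc => Subgroup.mem_bot.mpr (hcon c hc)))
          have hcZ : (c : Γ) ∈ Z := by
            rw [hZdef]
            refine ⟨c.2, ?_⟩
            show (c : Γ) ∈ centralizer (H : Set Γ)
            rw [Subgroup.mem_centralizer_iff]
            intro g hg
            have h1 := Subgroup.mem_center_iff.mp hcmem.2 ⟨g, hg⟩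
            exact congrArg Subtype.val h1
          have hcp : (c : Γ) ^ p = 1 := hZp _ hcZ
          obtain ⟨k, hk⟩ := Q.2 ⟨c, hcmem.1⟩
          have hk' : (c : Γ) ^ (q ^ k) = 1 := by
            have h1 := congrArg (fun t : (Q : Subgroup H) => ((t : H) : Γ)) hk
            simpa using h1
          have h3 := pow_gcd_eq_one.mpr ⟨hcp, hk'⟩
          have hg : Nat.gcd p (q ^ k) = 1 :=
            Nat.Coprime.pow_right k ((Nat.coprime_primes hp hq).mpr (Ne.symm hne))
          rw [hg, pow_one] at h3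
          exact hc1 (Subtype.ext h3))
      exact IsPGroup.of_card hcard
    apply hG
    obtain ⟨a, ha⟩ := IsPGroup.iff_card.mp hHp
    obtain ⟨b, hb⟩ := IsPGroup.iff_card.mp hE
    apply IsPGroup.of_card (n := a + b)
    rw [← Subgroup.card_mul_index H, ha, pow_add]
    congr 1
  have h1 : zpowers (zb : Γ ⧸ H) = ⊤ := eq_top_iff.mpr (fun x _ => htop x)
  have h2 : Nat.card (zpowers (zb : Γ ⧸ H)) = Nat.card (Γ ⧸ H) := by rw [h1, Subgroup.card_top]
  rw [Nat.card_zpowers] at h2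
  show Nat.card (Γ ⧸ H) = p
  rw [← h2]
  apply orderOf_eq_prime
  · rw [← hz, ← QuotientGroup.mk_pow, hzp]; rfl
  · intro hh; apply hzb; exact Subtype.ext hh

end Cfsg.Agent.Lib.helper29
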