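import Mathlib

set_option autoImplicit false

namespace Cfsg.Agent.Lib.helper29

open Polynomial

noncomputable def ev (p : ℕ) (K : Type*) [Field K] : Polynomial K →ₗ[K] (ZMod p → K) where
  toFun P j := P.eval (ZMod.cast j : K)
  map_add' P Q := by
    funext j
    simp
  map_smul' c P := by
    funext j
    simp

theorem ev_apply (p : ℕ) (K : Type*) [Field K] (P : Polynomial K) (j : ZMod p) :
    ev p K P j = P.eval (ZMod.cast j : K) := rfl

section
variable {p : ℕ} [Fact p.Prime] {K : Type*} [Field K] [CharP K p]

theorem cast_sub_one (j : ZMod p) : (ZMod.cast (j - 1) : K) = ZMod.cast j - 1 := by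
  have h := map_sub (ZMod.castHom (dvd_refl p) K) j 1
  rw [map_one] at h
  exact h

theorem cast_injective : Function.Injective (ZMod.cast : ZMod p → K) :=
  (ZMod.castHom (dvd_refl p) K).injective

theorem ev_shift (P : Polynomial K) (j : ZMod p) :
    ev p K P (j - 1) = ev p K (P.comp (X - C 1)) j := by
  rw [ev_apply, ev_apply, eval_comp, eval_sub, eval_X, eval_C, cast_sub_one]

theorem eq_zero_of_ev_eq_zero (P : Polynomial K) (hdeg : P.degree < p) (h : ev p K P = 0) :
    P = 0 := by
  by_contra hP
  have hnat : P.natDegree < p := (natDegree_lt_iff_degree_lt hP).mpr hdeg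
  apply hP
  apply eq_zero_of_natDegree_lt_card_of_eval_eq_zero P (cast_injective (p := p) (K := K))
  · intro j
    exact congrFun h j
  · rw [ZMod.card]
    exact hnat

theorem ev_surjective (f : ZMod p → K) : ∃ P : Polynomial K, P.degree < p ∧ ev p K P = f := by
  have hinj : Function.Injective ((ev p K).domRestrict (degreeLT K p)) := by
    rw [← LinearMap.ker_eq_bot, LinearMap.ker_eq_bot']
    intro P hP
    apply Subtype.ext
    exact eq_zero_of_ev_eq_zero P.1 (mem_degreeLT.mp P.2) hP
  have hfin : Module.finrank K (degreeLT K p) = Module.finrank K (ZMod p → K) := by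
    rw [LinearEquiv.finrank_eq (degreeLTEquiv K p), Module.finrank_fin_fun,
      Module.finrank_fintype_fun_eq_card, ZMod.card]
  have hsurj := (LinearMap.injective_iff_surjective_of_finrank_eq_finrank hfin).mp hinj
  obtain ⟨P, hP⟩ := hsurj f
  exact ⟨P.1, mem_degreeLT.mp P.2, hP⟩

theorem coeff_D (P : Polynomial K) (e : ℕ) (he : P.natDegree = e + 1) :
    (P.comp (X - C 1) - P).coeff e = -((e + 1 : ℕ) : K) * P.coeff (e + 1) := by
  have h1 : P.comp (X - C 1) = taylor (-1) P := by
    rw [taylor_apply, C_neg, sub_eq_add_neg]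
  rw [coeff_sub, h1, taylor_coeff]
  have h2 : (hasseDeriv e P).natDegree < 2 := by
    have := natDegree_hasseDeriv_le P e
    omega
  rw [eval_eq_sum_range' h2, Finset.sum_range_succ, Finset.sum_range_one, hasseDeriv_coeff,
    hasseDeriv_coeff]
  simp only [zero_add, Nat.choose_self, Nat.cast_one, one_mul, pow_zero, mul_one, pow_one]
  have h3 : (1 + e).choose e = e + 1 := by
    rw [add_comm, Nat.choose_succ_self_right]
  rw [h3, add_comm 1 e]
  ring

theorem natDegree_D (P : Polynomial K) (e : ℕ) (he : P.natDegree = e + 1) (hep : e + 1 < p) :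
    (P.comp (X - C 1) - P).natDegree = e ∧ P.comp (X - C 1) - P ≠ 0 := by
  have hP0 : P ≠ 0 := by
    intro h
    rw [h] at he
    simp at he
  have hc : (P.comp (X - C 1) - P).coeff e ≠ 0 := by
    rw [coeff_D P e he]
    apply mul_ne_zero
    · rw [neg_ne_zero]
      intro h
      rw [CharP.cast_eq_zero_iff K p] at h
      have := Nat.le_of_dvd (Nat.succ_pos e) h
      omega
    · rw [← he]
      exact leadingCoeff_ne_zero.mpr hP0
  have hne : P.comp (X - C 1) - P ≠ 0 := by
    intro h
    rw [h] at hc
    simp at hc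
  refine ⟨?_, hne⟩
  apply le_antisymm
  · have hlc : (P.comp (X - C 1)).leadingCoeff = P.leadingCoeff := by
      rw [leadingCoeff_comp (by rw [natDegree_X_sub_C]; exact one_ne_zero),
        leadingCoeff_X_sub_C, one_pow, mul_one]
    have hc0 : P.comp (X - C 1) ≠ 0 := by
      intro h
      rw [h, leadingCoeff_zero] at hlc
      exact hP0 (leadingCoeff_eq_zero.mp hlc.symm)
    have hnd : (P.comp (X - C 1)).natDegree = P.natDegree := by
      rw [natDegree_comp, natDegree_X_sub_C, mul_one]
    have hd : (P.comp (X - C 1)).degree = P.degree := by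
      rw [degree_eq_natDegree hc0, degree_eq_natDegree hP0, hnd]
    have hlt := degree_sub_lt hd hc0 hlc
    rw [hd] at hlt
    have := (natDegree_lt_natDegree hne hlt)
    omega
  · exact le_natDegree_of_ne_zero hc

theorem D_const (P : Polynomial K) (he : P.natDegree = 0) : P.comp (X - C 1) - P = 0 := by
  rw [eq_C_of_natDegree_eq_zero he, C_comp, sub_self]

end

end Cfsg.Agent.Lib.helper29
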