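import Mathlib
import Cfsg.Agent.S0989
import Cfsg.Agent.S0990

set_option autoImplicit false

namespace Cfsg.Agent.Lib.helper29

theorem card_sylow_of_eq_mul {G : Type*} [Group G] [Finite G] {p m : ℕ} [Fact p.Prime]
    (hG : Nat.card G = p * m) (hpm : ¬ p ∣ m) (P : Sylow p G) :
    Nat.card (P : Subgroup G) = p := by
  have hp : p.Prime := Fact.out
  have hm : m ≠ 0 := by
    rintro rfl
    exact hpm (dvd_zero p)
  rw [Sylow.card_eq_multiplicity, hG, Nat.factorization_mul hp.pos.ne' hm, Finsupp.add_apply,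
    hp.factorization_self, Nat.factorization_eq_zero_of_not_dvd hpm, pow_one]

theorem card_sylow_perm {α : Type*} [Fintype α] [DecidableEq α] (p : ℕ) [Fact p.Prime]
    (hα : Fintype.card α = p ∨ Fintype.card α = p + 1) (P : Sylow p (Equiv.Perm α)) :
    Nat.card (P : Subgroup (Equiv.Perm α)) = p := by
  have hp : p.Prime := Fact.out
  have hfac : ((Fintype.card α).factorial).factorization p = 1 := by
    obtain ⟨m, hm⟩ : ∃ m, p = m + 1 := ⟨p - 1, by have := hp.pos; omega⟩
    have h1 : (p.factorial).factorization p = 1 := by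
      conv_lhs => rw [hm, Nat.factorial_succ, ← hm]
      rw [Nat.factorization_mul hp.pos.ne' (Nat.factorial_ne_zero m), Finsupp.add_apply,
        hp.factorization_self,
        Nat.factorization_factorial_eq_zero_of_lt (by omega : m < p)]
    rcases hα with h | h
    · rw [h, h1]
    · rw [h, Nat.factorial_succ,
        Nat.factorization_mul (by omega) (Nat.factorial_ne_zero p), Finsupp.add_apply, h1,
        Nat.factorization_eq_zero_of_not_dvd, zero_add]
      intro hdvd
      have h2 : p ∣ 1 := (Nat.dvd_add_right (dvd_refl p)).mp hdvd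
      exact hp.one_lt.ne' (Nat.dvd_one.mp h2)
  rw [Sylow.card_eq_multiplicity, Nat.card_eq_fintype_card, Fintype.card_perm, hfac, pow_one]

/-- A finite simple group acts faithfully on its Sylow `p`-subgroups when there is more than one. -/
theorem sylow_action_injective {G : Type*} [Group G] [Finite G] [IsSimpleGroup G] (p : ℕ)
    [Fact p.Prime] (hn : 1 < Nat.card (Sylow p G)) :
    Function.Injective (MulAction.toPermHom G (Sylow p G)) := by
  rw [← MonoidHom.ker_eq_bot_iff]
  rcases (MulAction.toPermHom G (Sylow p G)).normal_ker.eq_bot_or_eq_top with h | h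
  · exact h
  · exfalso
    obtain ⟨P, P', hPP'⟩ := Finite.one_lt_card_iff_nontrivial.mp hn
    obtain ⟨g, hg⟩ := MulAction.exists_smul_eq G P P'
    have hgk : g ∈ (MulAction.toPermHom G (Sylow p G)).ker := by rw [h]; trivial
    rw [MonoidHom.mem_ker] at hgk
    have h1 : MulAction.toPermHom G (Sylow p G) g P = P := by rw [hgk]; rfl
    exact hPP' (h1.symm.trans hg)

theorem card_normalizer_dvd_of_simple {G : Type*} [Group G] [Finite G] [IsSimpleGroup G] (p : ℕ)
    [Fact p.Prime] (P : Sylow p G) (hP : Nat.card (P : Subgroup G) = p)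
    (hn : Nat.card (Sylow p G) = p + 1) :
    Nat.card (Subgroup.normalizer ((P : Subgroup G) : Set G)) ∣ p * (p - 1) := by
  classical
  have hp : p.Prime := Fact.out
  letI : Fintype (Sylow p G) := Fintype.ofFinite _
  have hcardS : Fintype.card (Sylow p G) = p ∨ Fintype.card (Sylow p G) = p + 1 := by
    right; rw [← Nat.card_eq_fintype_card, hn]
  obtain ⟨φ, hφ⟩ : ∃ φ : G →* Equiv.Perm (Sylow p G), φ = MulAction.toPermHom G (Sylow p G) :=
    ⟨_, rfl⟩
  have hinj : Function.Injective φ := by
    rw [hφ]; exact sylow_action_injective p (by rw [hn]; have := hp.pos; omega)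
  obtain ⟨Q, hQ⟩ := (P.isPGroup'.map φ).exists_le_sylow
  have hQcard := card_sylow_perm p hcardS Q
  have hPQ : (P : Subgroup G).map φ = (Q : Subgroup (Equiv.Perm (Sylow p G))) := by
    apply Subgroup.eq_of_le_of_card_ge hQ
    rw [hQcard, Subgroup.card_map_of_injective hinj, hP]
  have h1 : (Subgroup.normalizer ((P : Subgroup G) : Set G)).map φ ≤
      Subgroup.normalizer ((Q : Subgroup (Equiv.Perm (Sylow p G))) :
        Set (Equiv.Perm (Sylow p G))) := by
    rw [← hPQ]; exact Subgroup.le_normalizer_map φ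
  have h2 := Subgroup.card_dvd_of_le h1
  rw [Subgroup.card_map_of_injective hinj, Cfsg.Agent.S0989.result p hcardS Q] at h2
  exact h2

theorem two_mul_card_normalizer_dvd_of_simple {G : Type*} [Group G] [Finite G] [IsSimpleGroup G]
    (p : ℕ) [Fact p.Prime] (hp2 : p ≠ 2) (hG : 2 < Nat.card G) (P : Sylow p G)
    (hP : Nat.card (P : Subgroup G) = p) (hn : Nat.card (Sylow p G) = p + 1) :
    2 * Nat.card (Subgroup.normalizer ((P : Subgroup G) : Set G)) ∣ p * (p - 1) := by
  classical
  have hp : p.Prime := Fact.out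
  letI : Fintype (Sylow p G) := Fintype.ofFinite _
  have hcardS : Fintype.card (Sylow p G) = p ∨ Fintype.card (Sylow p G) = p + 1 := by
    right; rw [← Nat.card_eq_fintype_card, hn]
  have hcard2 : 2 ≤ Fintype.card (Sylow p G) := by
    rw [← Nat.card_eq_fintype_card, hn]; have := hp.pos; omega
  obtain ⟨φ, hφ⟩ : ∃ φ : G →* Equiv.Perm (Sylow p G), φ = MulAction.toPermHom G (Sylow p G) :=
    ⟨_, rfl⟩
  have hinj : Function.Injective φ := by
    rw [hφ]; exact sylow_action_injective p (by rw [hn]; have := hp.pos; omega)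
  obtain ⟨Q, hQ⟩ := (P.isPGroup'.map φ).exists_le_sylow
  have hQcard := card_sylow_perm p hcardS Q
  have hPQ : (P : Subgroup G).map φ = (Q : Subgroup (Equiv.Perm (Sylow p G))) := by
    apply Subgroup.eq_of_le_of_card_ge hQ
    rw [hQcard, Subgroup.card_map_of_injective hinj, hP]
  have hsign : ∀ g : G, φ g ∈ alternatingGroup (Sylow p G) := by
    intro g
    rw [Equiv.Perm.mem_alternatingGroup]
    rcases ((Equiv.Perm.sign.comp φ).normal_ker).eq_bot_or_eq_top with h | h
    · exfalso
      have hinj2 : Function.Injective (Equiv.Perm.sign.comp φ) :=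
        (MonoidHom.ker_eq_bot_iff _).mp h
      have h3 := Nat.card_le_card_of_injective _ hinj2
      have h4 : Nat.card ℤˣ = 2 := by
        rw [Nat.card_eq_fintype_card]; rfl
      omega
    · have hg : g ∈ (Equiv.Perm.sign.comp φ).ker := by rw [h]; trivial
      exact hg
  have hres := Cfsg.Agent.S0990.result hcard2 p hp2 Q
  have hS := Cfsg.Agent.S0989.result p hcardS Q
  rw [hS] at hres
  obtain ⟨ψ, hψ⟩ : ∃ ψ : Subgroup.normalizer ((P : Subgroup G) : Set G) →*
      alternatingGroup (Sylow p G), ∀ x, ψ x = ⟨φ x, hsign x⟩ :=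
    ⟨⟨⟨fun x => ⟨φ x, hsign x⟩, by apply Subtype.ext; simp⟩,
      fun x y => by apply Subtype.ext; simp⟩, fun _ => rfl⟩
  have hψinj : Function.Injective ψ := by
    intro x y hxy
    rw [hψ, hψ] at hxy
    apply Subtype.ext
    exact hinj (congrArg Subtype.val hxy)
  have hrange : ψ.range ≤ Subgroup.normalizer
      ((((Q : Subgroup (Equiv.Perm (Sylow p G))).subgroupOf (alternatingGroup (Sylow p G)) :
        Subgroup ↥(alternatingGroup (Sylow p G))) : Set ↥(alternatingGroup (Sylow p G)))) := by
    rintro _ ⟨x, rfl⟩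
    have h5 : φ x ∈ Subgroup.normalizer ((Q : Subgroup (Equiv.Perm (Sylow p G))) :
        Set (Equiv.Perm (Sylow p G))) := by
      rw [← hPQ]
      exact Subgroup.le_normalizer_map φ ⟨x, x.2, rfl⟩
    rw [Subgroup.mem_normalizer_iff] at h5 ⊢
    intro h
    rw [Subgroup.mem_subgroupOf, Subgroup.mem_subgroupOf, hψ]
    exact h5 h
  have h6 := Subgroup.card_dvd_of_le hrange
  rw [Nat.card_congr (MonoidHom.ofInjective hψinj).symm.toEquiv] at h6
  rw [← hres.2]
  exact Nat.mul_dvd_mul_left 2 h6

end Cfsg.Agent.Lib.helper29
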